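import Cfsg.Agent.Lib.FGStruct.Counting
import Cfsg.Agent.Lib.ClassSize.Cover
import Mathlib

/-!
Class sizes: primary elements, centralizers of commuting elements of coprime order, and the primes
with a noncentral primary element.
-/

set_option autoImplicit false
set_option linter.style.haveILetI false
set_option linter.unusedSectionVars false

namespace Cfsg.Agent.ThreeSizes

variable {G : Type*} [Group G]

/-- The centralizer of an element. -/
abbrev cent (x : G) : Subgroup G := Subgroup.centralizer ({x} : Set G)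

/-- The order of `x` is a power of `u`. -/
def PEl (u : ℕ) (x : G) : Prop := ∃ k : ℕ, x ^ u ^ k = 1

theorem mem_cent {x y : G} : y ∈ cent x ↔ y * x = x * y :=
  Subgroup.mem_centralizer_singleton_iff

theorem mem_cent_comm {x y : G} : y ∈ cent x ↔ x ∈ cent y := by
  rw [mem_cent, mem_cent]; exact eq_comm

theorem self_mem_cent (x : G) : x ∈ cent x := mem_cent.2 rfl

theorem center_le_cent (x : G) : Subgroup.center G ≤ cent x := fun z hz =>
  mem_cent.2 ((Subgroup.mem_center_iff.1 hz) x).symm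

theorem cent_eq_top_iff {x : G} : cent x = ⊤ ↔ x ∈ Subgroup.center G := by
  rw [Subgroup.mem_center_iff, eq_top_iff]
  exact ⟨fun h g => mem_cent.1 (h (Subgroup.mem_top g)), fun h g _ => mem_cent.2 (h g)⟩

theorem index_cent_eq_one_iff {x : G} : (cent x).index = 1 ↔ x ∈ Subgroup.center G := by
  rw [Subgroup.index_eq_one, cent_eq_top_iff]

theorem cent_le_cent_pow (x : G) (n : ℕ) : cent x ≤ cent (x ^ n) := fun _ hy =>
  mem_cent.2 ((show Commute _ x from mem_cent.1 hy).pow_right n).eq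

theorem PEl.one (u : ℕ) : PEl u (1 : G) := ⟨0, one_pow _⟩

theorem PEl.pow {u : ℕ} {x : G} (h : PEl u x) (n : ℕ) : PEl u (x ^ n) := by
  obtain ⟨k, hk⟩ := h
  exact ⟨k, by rw [← pow_mul, mul_comm, pow_mul, hk, one_pow]⟩

theorem PEl.inv {u : ℕ} {x : G} (h : PEl u x) : PEl u x⁻¹ := by
  obtain ⟨k, hk⟩ := h
  exact ⟨k, by rw [inv_pow, hk, inv_one]⟩

theorem PEl.mul {u : ℕ} {x y : G} (h : Commute x y) (hx : PEl u x) (hy : PEl u y) :
    PEl u (x * y) := by
  obtain ⟨j, hj⟩ := hx
  obtain ⟨k, hk⟩ := hy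
  refine ⟨j + k, ?_⟩
  rw [h.mul_pow, pow_add, pow_mul, hj, one_pow, mul_comm, pow_mul, hk, one_pow, one_mul]

theorem PEl.map {u : ℕ} {x : G} (h : PEl u x) {H : Type*} [Group H] (f : G →* H) :
    PEl u (f x) := by
  obtain ⟨k, hk⟩ := h
  exact ⟨k, by rw [← map_pow, hk, map_one]⟩

theorem PEl.conj {u : ℕ} {x : G} (h : PEl u x) (g : G) : PEl u (g * x * g⁻¹) :=
  h.map (MulAut.conj g).toMonoidHom

theorem PEl.coe {u : ℕ} {H : Subgroup G} {x : H} (h : PEl u x) : PEl u (x : G) :=
  h.map H.subtype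

theorem PEl.restrict {u : ℕ} {H : Subgroup G} {x : H} (h : PEl u (x : G)) : PEl u x := by
  obtain ⟨k, hk⟩ := h
  exact ⟨k, Subtype.ext (by simpa using hk)⟩

theorem eq_one_of_coprime {x : G} {m n : ℕ} (hc : m.Coprime n) (hm : x ^ m = 1) (hn : x ^ n = 1) :
    x = 1 := by
  have h := pow_gcd_eq_one.2 ⟨hm, hn⟩
  rwa [hc, pow_one] at h

theorem PEl.eq_one {u v : ℕ} (hu : u.Prime) (hv : v.Prime) (huv : u ≠ v) {x : G} (hx : PEl u x)
    (hy : PEl v x) : x = 1 := by
  obtain ⟨j, hj⟩ := hx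
  obtain ⟨k, hk⟩ := hy
  exact eq_one_of_coprime (((Nat.coprime_primes hu hv).2 huv).pow j k) hj hk

theorem PEl.eq_one_of_pow {u n : ℕ} (hc : u.Coprime n) {x : G} (hx : PEl u x) (hn : x ^ n = 1) :
    x = 1 := by
  obtain ⟨j, hj⟩ := hx
  exact eq_one_of_coprime (hc.pow_left j) hj hn

/-- Commuting elements of coprime order are powers of their product. -/
theorem exists_pow_mul {w u : G} (h : Commute w u) {m n : ℕ} (hc : m.Coprime n) (hw : w ^ m = 1)
    (hu : u ^ n = 1) : ∃ a b : ℕ, (w * u) ^ a = w ∧ (w * u) ^ b = u := by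
  obtain ⟨a, ha1, ha2⟩ := Nat.chineseRemainder hc 1 0
  obtain ⟨b, hb1, hb2⟩ := Nat.chineseRemainder hc 0 1
  have hmod : ∀ (x : G) (k i j : ℕ), x ^ k = 1 → i ≡ j [MOD k] → x ^ i = x ^ j := by
    intro x k i j hx hij
    rw [← Nat.div_add_mod i k, ← Nat.div_add_mod j k, pow_add, pow_add, pow_mul, pow_mul, hx,
      one_pow, one_pow, hij]
  refine ⟨a, b, ?_, ?_⟩
  · rw [h.mul_pow, hmod w m a 1 hw ha1, hmod u n a 0 hu ha2, pow_one, pow_zero, mul_one]
  · rw [h.mul_pow, hmod w m b 0 hw hb1, hmod u n b 1 hu hb2, pow_one, pow_zero, one_mul]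

theorem cent_mul_eq {w u : G} (h : Commute w u) {m n : ℕ} (hc : m.Coprime n) (hw : w ^ m = 1)
    (hu : u ^ n = 1) : cent (w * u) = cent w ⊓ cent u := by
  obtain ⟨a, b, ha, hb⟩ := exists_pow_mul h hc hw hu
  refine le_antisymm (le_inf ?_ ?_) ?_
  · conv_rhs => rw [← ha]
    exact cent_le_cent_pow _ _
  · conv_rhs => rw [← hb]
    exact cent_le_cent_pow _ _
  · rintro y ⟨hy1, hy2⟩
    exact mem_cent.2 ((show Commute y w from mem_cent.1 hy1).mul_right (mem_cent.1 hy2)).eq

theorem cent_mul_primes {q r : ℕ} (hq : q.Prime) (hr : r.Prime) (hqr : q ≠ r) {w u : G}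
    (hw : PEl q w) (hu : PEl r u) (h : u ∈ cent w) : cent (w * u) = cent w ⊓ cent u := by
  obtain ⟨j, hj⟩ := hw
  obtain ⟨k, hk⟩ := hu
  exact cent_mul_eq (mem_cent.1 h).symm (((Nat.coprime_primes hq hr).2 hqr).pow j k) hj hk

variable [Finite G]

/-- An element outside a subgroup has a primary power outside it. -/
theorem exists_primary_not_mem {H : Subgroup G} {x : G} (hx : x ∉ H) :
    ∃ (l n : ℕ), l.Prime ∧ PEl l (x ^ n) ∧ x ^ n ∉ H := by
  classical
  induction' hN : orderOf x using Nat.strong_induction_on with N ih generalizing x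
  have hN1 : N ≠ 1 := fun h => hx (by rw [orderOf_eq_one_iff.1 (hN.trans h)]; exact H.one_mem)
  obtain ⟨l, hl, hlN⟩ := Nat.exists_prime_and_dvd hN1
  have hN0 : N ≠ 0 := hN ▸ (orderOf_pos x).ne'
  set A := N.factorization l with hA
  set m := ordCompl[l] N with hm
  have hNm : l ^ A * m = N := Nat.ordProj_mul_ordCompl_eq_self N l
  have hlx : PEl l (x ^ m) := ⟨A, by rw [← pow_mul, mul_comm, hNm, ← hN, pow_orderOf_eq_one]⟩
  by_cases h1 : x ^ m ∈ H
  swap
  · exact ⟨l, m, hl, hlx, h1⟩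
  have h2 : x ^ (l ^ A) ∉ H := by
    intro h2
    obtain ⟨a, b, hab⟩ : ∃ a b : ℤ, ((l ^ A : ℕ) : ℤ) * a + (m : ℤ) * b = 1 := by
      refine ⟨Nat.gcdA (l ^ A) m, Nat.gcdB (l ^ A) m, ?_⟩
      have h := Nat.gcd_eq_gcd_ab (l ^ A) m
      rw [((Nat.coprime_ordCompl hl hN0).pow_left A).gcd_eq_one] at h
      exact_mod_cast h.symm
    refine hx ?_
    have : (x ^ (l ^ A)) ^ a * (x ^ m) ^ b = x := by
      rw [← zpow_natCast x (l ^ A), ← zpow_natCast x m, ← zpow_mul, ← zpow_mul, ← zpow_add, hab,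
        zpow_one]
    rw [← this]
    exact H.mul_mem (H.zpow_mem h2 a) (H.zpow_mem h1 b)
  have hlt : orderOf (x ^ (l ^ A)) < N := by
    rw [orderOf_pow_of_dvd (pow_ne_zero _ hl.ne_zero) (hN ▸ Nat.ordProj_dvd N l), hN]
    exact Nat.div_lt_self (Nat.pos_of_ne_zero hN0)
      (Nat.one_lt_pow (hl.factorization_pos_of_dvd hN0 hlN).ne' hl.one_lt)
  obtain ⟨l', n, hl', hp, hn⟩ := ih _ hlt h2 rfl
  rw [← pow_mul] at hp hn
  exact ⟨l', _, hl', hp, hn⟩

theorem eq_of_le_of_index_le {H K : Subgroup G} (hle : H ≤ K) (h : H.index ≤ K.index) : H = K := by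
  by_contra hne
  exact absurd (Subgroup.index_strictAnti (lt_of_le_of_ne hle hne)) (not_lt.2 h)

theorem index_le_of_le {H K : Subgroup G} (hle : H ≤ K) : K.index ≤ H.index :=
  Nat.le_of_dvd (Nat.pos_of_ne_zero Subgroup.index_ne_zero_of_finite) (Subgroup.index_dvd_of_le hle)

theorem PEl.isPGroup_of_forall {u : ℕ} {A : Subgroup G} (h : ∀ x ∈ A, PEl u x) : IsPGroup u A :=
  fun x => by
    obtain ⟨k, hk⟩ := (PEl.restrict (h x.1 x.2))
    exact ⟨k, hk⟩

theorem PEl.of_isPGroup {u : ℕ} {A : Subgroup G} (h : IsPGroup u A) {x : G} (hx : x ∈ A) :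
    PEl u x := by
  obtain ⟨k, hk⟩ := h ⟨x, hx⟩
  exact ⟨k, by simpa using congrArg Subtype.val hk⟩

/-- Some element of `l`-power order of `H` is not central in `G`. -/
def Has (l : ℕ) (H : Subgroup G) : Prop := ∃ x ∈ H, PEl l x ∧ x ∉ Subgroup.center G

/-- `H` contains noncentral `l`-elements iff its `l`-part is larger than that of the center. -/
theorem has_iff {l : ℕ} (hl : l.Prime) {H : Subgroup G} (hH : Subgroup.center G ≤ H) :
    Has l H ↔ (Nat.card (Subgroup.center G)).factorization l < (Nat.card H).factorization l := by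
  classical
  haveI := Fact.mk hl
  have hdvd : Nat.card (Subgroup.center G) ∣ Nat.card H := Subgroup.card_dvd_of_le hH
  constructor
  · rintro ⟨x, hxH, hx, hxZ⟩
    by_contra hlt
    obtain ⟨P⟩ : Nonempty (Sylow l (Subgroup.center G)) := inferInstance
    set Q : Subgroup H := ((P : Subgroup (Subgroup.center G)).map
      (Subgroup.center G).subtype).subgroupOf H with hQ
    have hPH : (P : Subgroup (Subgroup.center G)).map (Subgroup.center G).subtype ≤ H :=
      (Subgroup.map_subtype_le _).trans hH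
    have hQn : Q.Normal := ⟨fun q hq g => by
      rw [hQ, Subgroup.mem_subgroupOf] at hq ⊢
      have hz : (q : G) ∈ Subgroup.center G := Subgroup.map_subtype_le _ hq
      simpa [Subgroup.mem_center_iff.1 hz (g : G)] using hq⟩
    have hQc : Nat.card Q = l ^ (Nat.card H).factorization l := by
      rw [hQ, Nat.card_congr (Subgroup.subgroupOfEquivOfLe hPH).toEquiv,
        Subgroup.card_map_of_injective (Subgroup.subtype_injective _), P.card_eq_multiplicity]
      congr 1
      exact le_antisymm ((Nat.factorization_le_iff_dvd Nat.card_pos.ne' Nat.card_pos.ne').2 hdvd l)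
        (not_lt.1 hlt)
    set S : Sylow l H := Sylow.ofCard Q hQc
    haveI : (S : Subgroup H).Normal := by rw [Sylow.coe_ofCard]; exact hQn
    have hz : IsPGroup l (Subgroup.zpowers (⟨x, hxH⟩ : H)) := PEl.isPGroup_of_forall fun y hy => by
      obtain ⟨n, rfl⟩ := Subgroup.mem_zpowers_iff.1 hy
      obtain ⟨k, hk⟩ := hx
      refine ⟨k, Subtype.ext ?_⟩
      show (x ^ n) ^ l ^ k = 1
      rw [← zpow_natCast, ← zpow_mul, mul_comm, zpow_mul, zpow_natCast, hk, one_zpow]
    obtain ⟨S', hS'⟩ := hz.exists_le_sylow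
    haveI : Subsingleton (Sylow l H) := by
      haveI := S.unique_of_normal inferInstance
      infer_instance
    have hmem : (⟨x, hxH⟩ : H) ∈ (S : Subgroup H) :=
      Subsingleton.elim S' S ▸ hS' (Subgroup.mem_zpowers _)
    rw [Sylow.coe_ofCard, hQ, Subgroup.mem_subgroupOf] at hmem
    exact hxZ (Subgroup.map_subtype_le _ hmem)
  · intro hlt
    by_contra hcon
    obtain ⟨P⟩ : Nonempty (Sylow l H) := inferInstance
    have hle : (P : Subgroup H).map H.subtype ≤ Subgroup.center G := by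
      rintro _ ⟨y, hy, rfl⟩
      by_contra hyZ
      exact hcon ⟨y, y.2, (PEl.of_isPGroup P.isPGroup' hy).coe, hyZ⟩
    have h1 := Subgroup.card_dvd_of_le hle
    rw [Subgroup.card_map_of_injective H.subtype_injective, P.card_eq_multiplicity,
      hl.pow_dvd_iff_le_factorization Nat.card_pos.ne'] at h1
    omega

theorem card_eq_of_index_eq {H K : Subgroup G} (h : H.index = K.index) :
    Nat.card H = Nat.card K := by
  have h1 := H.card_mul_index
  have h2 := K.card_mul_index
  rw [h] at h1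
  exact Nat.eq_of_mul_eq_mul_right (Nat.pos_of_ne_zero Subgroup.index_ne_zero_of_finite)
    (h1.trans h2.symm)

theorem factorization_card (l : ℕ) (H : Subgroup G) :
    (Nat.card H).factorization l + H.index.factorization l = (Nat.card G).factorization l := by
  rw [← H.card_mul_index,
    Nat.factorization_mul Nat.card_pos.ne' Subgroup.index_ne_zero_of_finite, Finsupp.add_apply]

theorem has_congr {l : ℕ} (hl : l.Prime) {H K : Subgroup G} (hH : Subgroup.center G ≤ H)
    (hK : Subgroup.center G ≤ K) (h : H.index.factorization l = K.index.factorization l) :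
    Has l H ↔ Has l K := by
  rw [has_iff hl hH, has_iff hl hK]
  have h1 := factorization_card l H
  have h2 := factorization_card l K
  omega

/-- Some element of `l`-power order is not central. -/
def NC (G : Type*) [Group G] (l : ℕ) : Prop := ∃ x : G, PEl l x ∧ x ∉ Subgroup.center G

theorem not_dvd_index_of_not_nc {l : ℕ} (hl : l.Prime) (h : ¬ NC G l) (x : G) :
    ¬ l ∣ (cent x).index := by
  haveI := Fact.mk hl
  obtain ⟨P⟩ : Nonempty (Sylow l G) := inferInstance
  have hle : (P : Subgroup G) ≤ cent x := fun y hy => center_le_cent x (by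
    by_contra hyZ
    exact h ⟨y, PEl.of_isPGroup P.isPGroup' hy, hyZ⟩)
  exact fun hd => P.not_dvd_index (hd.trans (Subgroup.index_dvd_of_le hle))

theorem exists_dvd_index_of_nc {l : ℕ} (hl : l.Prime) (h : NC G l) :
    ∃ x : G, l ∣ (cent x).index := by
  haveI := Fact.mk hl
  by_contra hcon
  push Not at hcon
  obtain ⟨x, hx, hxZ⟩ := h
  have hz : IsPGroup l (Subgroup.zpowers x) := PEl.isPGroup_of_forall fun y hy => by
    obtain ⟨n, rfl⟩ := Subgroup.mem_zpowers_iff.1 hy
    obtain ⟨k, hk⟩ := hx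
    exact ⟨k, by rw [← zpow_natCast, ← zpow_mul, mul_comm, zpow_mul, zpow_natCast, hk, one_zpow]⟩
  obtain ⟨P, hP⟩ := hz.exists_le_sylow
  have htop : Subgroup.centralizer ((P : Subgroup G) : Set G) = ⊤ := by
    refine Counting.eq_top_of_conj_cover _ fun g => ?_
    obtain ⟨P', hP'⟩ := ClassCover.exists_sylow_of_mem l (x := g) (hcon g)
    obtain ⟨c, hc⟩ := MulAction.exists_smul_eq G P P'
    refine ⟨c, Subgroup.mem_centralizer_iff.2 fun y hy => ?_⟩
    have h1 : c * y * c⁻¹ ∈ (P' : Subgroup G) := by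
      rw [← hc, Sylow.coe_subgroup_smul, Subgroup.mem_pointwise_smul_iff_inv_smul_mem]
      simp only [MulAut.smul_def, ← map_inv, MulAut.conj_apply]
      simp [mul_assoc]
      exact hy
    have h2 := Subgroup.mem_centralizer_iff.1 hP' _ h1
    calc y * (c⁻¹ * g * c) = c⁻¹ * (c * y * c⁻¹ * g) * c := by group
      _ = c⁻¹ * (g * (c * y * c⁻¹)) * c := by rw [h2]
      _ = c⁻¹ * g * c * y := by group
  refine hxZ (Subgroup.mem_center_iff.2 fun g => ?_)
  exact ((Subgroup.mem_centralizer_iff.1 (htop ▸ Subgroup.mem_top g)) x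
    (hP (Subgroup.mem_zpowers x))).symm

theorem cent_subgroupOf (H : Subgroup G) (x : H) : cent x = (cent (x : G)).subgroupOf H := by
  ext y
  rw [Subgroup.mem_subgroupOf, mem_cent, mem_cent, Subtype.ext_iff]
  simp

end Cfsg.Agent.ThreeSizes
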