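import Cfsg.Agent.Lib.ThreeSizes.Basic
import Cfsg.Agent.Lib.Char.Burnside
import Cfsg.Agent.Lib.FiniteGroup.FittingPow
import Mathlib

/-!
A solubility criterion from prime power class sizes, and a fact on coprime elements centralizing a
Sylow subgroup in a soluble group.
-/

set_option autoImplicit false
set_option linter.style.haveILetI false
set_option linter.unusedSectionVars false

namespace Cfsg.Agent.ThreeSizes

universe u

/-- Class sizes of primary elements of order prime to `s` have prime divisors only `s` and `t`. -/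
def TwoPrimeClasses (G : Type*) [Group G] (s t : ℕ) : Prop :=
  ∀ (x : G) (l : ℕ), l.Prime → l ≠ s → PEl l x →
    ∀ m : ℕ, m.Prime → m ≠ s → m ≠ t → ¬ m ∣ (cent x).index

theorem exists_primary_lift {G : Type*} [Group G] [Finite G] (N : Subgroup G) [N.Normal] {l : ℕ}
    (hl : l.Prime) {q : G ⧸ N} (hq : PEl l q) : ∃ x : G, PEl l x ∧ (QuotientGroup.mk x : G ⧸ N) = q := by
  obtain ⟨x, rfl⟩ := QuotientGroup.mk_surjective q
  obtain ⟨k, hk⟩ := hq
  have hN0 := (orderOf_pos x).ne'
  obtain ⟨e, he1, he2⟩ := Nat.chineseRemainder (((Nat.coprime_ordCompl hl hN0).pow_left k).symm) 0 1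
  refine ⟨x ^ e, ?_, ?_⟩
  · obtain ⟨c, rfl⟩ := Nat.modEq_zero_iff_dvd.1 he1
    refine ⟨(orderOf x).factorization l, ?_⟩
    rw [← pow_mul, show ordCompl[l] (orderOf x) * c * l ^ (orderOf x).factorization l
        = (l ^ (orderOf x).factorization l * ordCompl[l] (orderOf x)) * c by ring,
      Nat.ordProj_mul_ordCompl_eq_self, pow_mul, pow_orderOf_eq_one, one_pow]
  · rw [QuotientGroup.mk_pow]
    calc (QuotientGroup.mk x : G ⧸ N) ^ e = (QuotientGroup.mk x : G ⧸ N) ^ 1 :=
          pow_eq_pow_iff_modEq.2 (he2.of_dvd (orderOf_dvd_of_pow_eq_one hk))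
      _ = _ := pow_one _

theorem index_cent_quot_dvd {G : Type*} [Group G] (N : Subgroup G) [N.Normal] (x : G) :
    (cent (QuotientGroup.mk x : G ⧸ N)).index ∣ (cent x).index := by
  refine (Subgroup.index_dvd_of_le ?_).trans
    (Subgroup.index_map_dvd _ (QuotientGroup.mk'_surjective N))
  rintro _ ⟨a, ha, rfl⟩
  rw [mem_cent, QuotientGroup.mk'_apply, ← QuotientGroup.mk_mul, ← QuotientGroup.mk_mul,
    mem_cent.1 ha]

theorem index_cent_normal_dvd {G : Type*} [Group G] [Finite G] (N : Subgroup G) [N.Normal] (x : N) :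
    (cent x).index ∣ (cent (x : G)).index := by
  rw [cent_subgroupOf, ← Subgroup.relIndex]
  exact FiniteGroup.relIndex_dvd_index_of_normal_right (cent (x : G)) N

theorem TwoPrimeClasses.normal {G : Type*} [Group G] [Finite G] {s t : ℕ}
    (h : TwoPrimeClasses G s t) (N : Subgroup G) [N.Normal] : TwoPrimeClasses N s t :=
  fun x l hl hls hx m hm hms hmt hd =>
    h x l hl hls hx.coe m hm hms hmt (hd.trans (index_cent_normal_dvd N x))

theorem TwoPrimeClasses.quot {G : Type*} [Group G] [Finite G] {s t : ℕ}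
    (h : TwoPrimeClasses G s t) (N : Subgroup G) [N.Normal] : TwoPrimeClasses (G ⧸ N) s t :=
  fun q l hl hls hq m hm hms hmt hd => by
    obtain ⟨x, hx, rfl⟩ := exists_primary_lift N hl hq
    exact h x l hl hls hx m hm hms hmt (hd.trans (index_cent_quot_dvd N x))

theorem solvable_of_twoPrimeClasses {s t : ℕ} (hs : s.Prime) (ht : t.Prime) :
    ∀ (n : ℕ) (G : Type u) [Group G] [Finite G], Nat.card G ≤ n → TwoPrimeClasses G s t →
      Group.IsSolvable G := by
  intro n
  induction n with
  | zero =>
    intro G _ _ hn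
    exact absurd (Nat.card_pos (α := G)) (by omega)
  | succ n ih =>
    intro G _ _ hn h
    classical
    rcases subsingleton_or_nontrivial G with hG | hG
    · exact Group.isSolvable_of_comm fun a b => Subsingleton.elim _ _
    by_cases hsimple : ∀ N : Subgroup G, N.Normal → N = ⊥ ∨ N = ⊤
    swap
    · push Not at hsimple
      obtain ⟨N, hN, hNb, hNt⟩ := hsimple
      have h1 := Subgroup.card_eq_card_quotient_mul_card_subgroup N
      have h2 : 1 < Nat.card N := (Subgroup.one_lt_card_iff_ne_bot N).2 hNb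
      have h3 : Nat.card N < Nat.card G := by
        rcases lt_or_eq_of_le (Nat.le_of_dvd Nat.card_pos N.card_subgroup_dvd_card) with h' | h'
        · exact h'
        · exact absurd ((Subgroup.card_eq_iff_eq_top N).1 h') hNt
      have h4 : 0 < Nat.card (G ⧸ N) := Nat.card_pos
      haveI : Group.IsSolvable ↥N := ih ↥N (by omega) (h.normal N)
      haveI : Group.IsSolvable (G ⧸ N) := ih (G ⧸ N) (by nlinarith) (h.quot N)
      exact Group.isSolvable_of_ker_le_range N.subtype (QuotientGroup.mk' N) (by simp)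
    haveI : IsSimpleGroup G := ⟨hsimple⟩
    by_contra hns
    have hnp : ¬ (Nat.card G).Prime := fun hp => by
      haveI := Fact.mk hp
      haveI : IsCyclic G := isCyclic_of_prime_card rfl
      exact hns (Group.isSolvable_of_comm fun a b => IsMulCommutative.is_comm.comm a b)
    by_cases hall : ∀ l : ℕ, l.Prime → l ∣ Nat.card G → l = s
    · exact hns (Char.isSolvable_of_card_pq s s hs hs (Nat.card G) G rfl
        ⟨(Nat.card G).primeFactorsList.length, 0, by
          rw [pow_zero, mul_one]
          exact Nat.eq_prime_pow_of_unique_prime_dvd Nat.card_pos.ne' fun {d} hd hdd => hall d hd hdd⟩)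
    push Not at hall
    obtain ⟨l, hl, hlG, hls, hlt⟩ : ∃ l : ℕ, l.Prime ∧ l ∣ Nat.card G ∧ l ≠ s ∧
        (t ∣ Nat.card G → t ≠ s → l = t) := by
      obtain ⟨l, hl, hlG, hls⟩ := hall
      by_cases htG : t ∣ Nat.card G ∧ t ≠ s
      · exact ⟨t, ht, htG.1, htG.2, fun _ _ => rfl⟩
      · exact ⟨l, hl, hlG, hls, fun h1 h2 => absurd ⟨h1, h2⟩ htG⟩
    haveI := Fact.mk hl
    obtain ⟨P⟩ : Nonempty (Sylow l G) := inferInstance
    haveI : Nontrivial (P : Subgroup G) :=
      (Subgroup.nontrivial_iff_ne_bot _).2 (P.ne_bot_of_dvd_card hlG)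
    haveI := P.isPGroup'.center_nontrivial
    obtain ⟨z, hz⟩ := exists_ne (1 : Subgroup.center (P : Subgroup G))
    set x : G := ((z : (P : Subgroup G)) : G) with hx
    have hx1 : x ≠ 1 := fun e => hz (Subtype.ext (Subtype.ext e))
    have hle : (P : Subgroup G) ≤ cent x := fun y hy =>
      mem_cent.2 (congrArg Subtype.val (Subgroup.mem_center_iff.1 z.2 ⟨y, hy⟩))
    have hnl : ¬ l ∣ (cent x).index := fun hd =>
      P.not_dvd_index (hd.trans (Subgroup.index_dvd_of_le hle))
    have honly : ∀ m : ℕ, m.Prime → m ∣ (cent x).index → m = s := by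
      intro m hm hd
      by_contra hms
      by_cases hmt : m = t
      · subst hmt
        exact hnl (hlt (hd.trans (Subgroup.index_dvd_card _)) hms ▸ hd)
      · exact h x l hl hls (PEl.of_isPGroup P.isPGroup' (z : (P : Subgroup G)).2) m hm hms hmt hd
    exact hnp (Char.prime_card_of_class_prime_pow hs x hx1
      (Nat.eq_prime_pow_of_unique_prime_dvd Subgroup.index_ne_zero_of_finite
        fun {d} hd hdd => honly d hd hdd))

/-- In a soluble group a coprime element normalizing a Sylow subgroup and centralizing a conjugate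
of it centralizes it. -/
theorem mem_centralizer_of_conj {r : ℕ} (hr : r.Prime) :
    ∀ (n : ℕ) (G : Type u) [Group G] [Finite G], Nat.card G ≤ n → Group.IsSolvable G →
      ∀ (R R' : Subgroup G), IsPGroup r R → ¬ r ∣ R.index → IsPGroup r R' → ¬ r ∣ R'.index →
      ∀ (g : G) (k : ℕ), r.Coprime k → g ^ k = 1 → (∀ x ∈ R, g * x * g⁻¹ ∈ R) →
        (∀ x ∈ R', g * x = x * g) → ∀ x ∈ R, g * x = x * g := by
  intro n
  induction n with
  | zero =>
    intro G _ _ hn
    exact absurd (Nat.card_pos (α := G)) (by omega)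
  | succ n ih =>
    intro G _ _ hn hsolv R R' hR hRi hR' hRi' g k hk hgk hnorm hcent x hx
    classical
    haveI := hsolv
    haveI := Fact.mk hr
    rcases subsingleton_or_nontrivial G with hG | hG
    · exact Subsingleton.elim _ _
    -- a nontrivial normal subgroup of prime power order
    obtain ⟨N, l, hl, hNn, hNne, hNl⟩ : ∃ (N : Subgroup G) (l : ℕ),
        l.Prime ∧ N.Normal ∧ N ≠ ⊥ ∧ IsPGroup l N := by
      obtain ⟨A, ⟨hAn, hAne⟩, hAmin⟩ := Set.Finite.exists_minimal
        (s := {A : Subgroup G | A.Normal ∧ A ≠ ⊥}) (Set.toFinite _) ⟨⊤, inferInstance, top_ne_bot⟩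
      haveI := hAn
      haveI : Nontrivial A := (Subgroup.nontrivial_iff_ne_bot A).2 hAne
      obtain ⟨l, hl, hlA⟩ := Nat.exists_prime_and_dvd ((Subgroup.one_lt_card_iff_ne_bot A).2 hAne).ne'
      have hab : ⁅A, A⁆ = ⊥ := by
        by_contra hb
        have hle := hAmin ⟨Subgroup.commutator_normal A A, hb⟩ (Subgroup.commutator_le_left A A)
        refine (Group.IsSolvable.commutator_lt_top_of_nontrivial A).ne ?_
        refine Subgroup.map_injective A.subtype_injective ?_
        rw [commutator_def, Subgroup.map_commutator, ← MonoidHom.range_eq_map, Subgroup.range_subtype]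
        exact le_antisymm (Subgroup.commutator_le_left A A) hle
      rw [Subgroup.commutator_eq_bot_iff_le_centralizer] at hab
      let N : Subgroup G :=
        { carrier := {y | y ∈ A ∧ PEl l y}
          one_mem' := ⟨A.one_mem, PEl.one l⟩
          mul_mem' := fun {a b} ha hb => ⟨A.mul_mem ha.1 hb.1,
            ha.2.mul ((Subgroup.mem_centralizer_iff.1 (hab ha.1) b hb.1).symm) hb.2⟩
          inv_mem' := fun {a} ha => ⟨A.inv_mem ha.1, ha.2.inv⟩ }
      refine ⟨N, l, hl, ⟨fun y hy c => ⟨hAn.conj_mem y hy.1 c, hy.2.conj c⟩⟩, ?_,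
        PEl.isPGroup_of_forall fun y hy => hy.2⟩
      haveI := Fact.mk hl
      obtain ⟨y, hy⟩ := exists_prime_orderOf_dvd_card' l hlA
      intro hb
      have : (y : G) ∈ N := ⟨y.2, 1, by
        rw [pow_one]; exact congrArg Subtype.val (hy ▸ pow_orderOf_eq_one y)⟩
      rw [hb, Subgroup.mem_bot] at this
      rw [show y = 1 from Subtype.ext this, orderOf_one] at hy
      exact hl.ne_one hy.symm
    haveI := hNn
    have hlt : Nat.card (G ⧸ N) < Nat.card G := by
      have h1 := Subgroup.card_eq_card_quotient_mul_card_subgroup N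
      have h2 : 1 < Nat.card N := (Subgroup.one_lt_card_iff_ne_bot N).2 hNne
      have h3 : 0 < Nat.card (G ⧸ N) := Nat.card_pos
      nlinarith
    set π := QuotientGroup.mk' N
    have hsq : Group.IsSolvable (G ⧸ N) :=
      Group.isSolvable_of_surjective (f := π) (QuotientGroup.mk'_surjective N)
    have hq := ih (G ⧸ N) (by omega) hsq (R.map π) (R'.map π)
      (hR.map π) (fun hd => hRi (hd.trans (Subgroup.index_map_dvd _ (QuotientGroup.mk'_surjective N))))
      (hR'.map π) (fun hd => hRi' (hd.trans (Subgroup.index_map_dvd _ (QuotientGroup.mk'_surjective N))))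
      (π g) k hk (by rw [← map_pow, hgk, map_one])
      (by rintro _ ⟨y, hy, rfl⟩; exact ⟨g * y * g⁻¹, hnorm y hy, by simp⟩)
      (by rintro _ ⟨y, hy, rfl⟩; rw [← map_mul, ← map_mul, hcent y hy])
      (π x) ⟨x, hx, rfl⟩
    set z := g * x * g⁻¹ * x⁻¹ with hzdef
    have hzR : z ∈ R := R.mul_mem (hnorm x hx) (R.inv_mem hx)
    have hzN : z ∈ N := (QuotientGroup.eq_one_iff z).1 (show π z = 1 by
      rw [hzdef, map_mul, map_mul, map_mul, hq, map_inv, map_inv]
      group)
    have hz1 : z = 1 := by
      rcases ne_or_eq l r with hlr | rfl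
      · exact (PEl.of_isPGroup hNl hzN).eq_one hl hr hlr (PEl.of_isPGroup hR hzR)
      · -- `N` lies in `R'`
        have hNR' : N ≤ R' := by
          have h1 : IsPGroup l (R' ⊔ N : Subgroup G) := hR'.to_sup_of_normal_right hNl
          exact le_sup_right.trans ((hR'.toSylow hRi').3 h1 le_sup_left).le
        have hgz : Commute g z := hcent z (hNR' hzN)
        have key : ∀ i : ℕ, g ^ i * x * (g ^ i)⁻¹ = z ^ i * x := by
          intro i
          induction i with
          | zero => simp
          | succ i ih =>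
            calc g ^ (i + 1) * x * (g ^ (i + 1))⁻¹ = g * (g ^ i * x * (g ^ i)⁻¹) * g⁻¹ := by group
              _ = (g * z ^ i) * x * g⁻¹ := by rw [ih]; group
              _ = (z ^ i * g) * x * g⁻¹ := by rw [(hgz.pow_right i).eq]
              _ = z ^ i * (z * x) := by rw [hzdef]; group
              _ = z ^ (i + 1) * x := by group
        have h1 : z ^ k = 1 := by
          have := key k
          rw [hgk, inv_one, one_mul, mul_one] at this
          exact mul_eq_right.1 this.symm
        exact (PEl.of_isPGroup hR hzR).eq_one_of_pow hk h1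
    rw [hzdef, mul_inv_eq_one] at hz1
    calc g * x = (g * x * g⁻¹) * g := by group
      _ = x * g := by rw [hz1]

end Cfsg.Agent.ThreeSizes
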