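import Cfsg.Agent.Lib.ThreeSizes.Key
import Cfsg.Agent.Lib.ThreeSizes.Criterion
import Mathlib

/-!
Groups in which the elements of order prime to `p` have class size `1` or `d`, with two further
primes having noncentral elements: then `d` is a power of `p`.
-/

set_option autoImplicit false
set_option linter.style.haveILetI false
set_option linter.unusedSectionVars false

namespace Cfsg.Agent.ThreeSizes

universe u

/-- Elements of order prime to `p` have class size `1` or `d`. -/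
def TwoSizes (G : Type*) [Group G] (p d : ℕ) : Prop :=
  ∀ (x : G) (n : ℕ), n.Coprime p → x ^ n = 1 → (cent x).index = 1 ∨ (cent x).index = d

variable {G : Type u} [Group G] [Finite G] {p d : ℕ}

theorem TwoSizes.index_eq (hp : p.Prime) (h : TwoSizes G p d) {q : ℕ} (hq : q.Prime) (hqp : q ≠ p)
    {w : G} (hw : PEl q w) (hwZ : w ∉ Subgroup.center G) : (cent w).index = d := by
  obtain ⟨k, hk⟩ := hw
  rcases h w (q ^ k) (((Nat.coprime_primes hq hp).2 hqp).pow_left k) hk with h1 | h1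
  · exact absurd (index_cent_eq_one_iff.1 h1) hwZ
  · exact h1

theorem TwoSizes.same (hp : p.Prime) (h : TwoSizes G p d) {q r : ℕ} (hq : q.Prime) (hr : r.Prime)
    (hqp : q ≠ p) (hrp : r ≠ p) (hqr : q ≠ r) {w u : G} (hw : PEl q w)
    (hwZ : w ∉ Subgroup.center G) (hu : PEl r u) (huZ : u ∉ Subgroup.center G) (hwu : u ∈ cent w) :
    cent u = cent w := by
  have he := cent_mul_primes hq hr hqr hw hu hwu
  have hiw := h.index_eq hp hq hqp hw hwZ
  have hiu := h.index_eq hp hr hrp hu huZ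
  have hwu' : (cent (w * u)).index = d := by
    obtain ⟨j, hj⟩ := hw
    obtain ⟨k, hk⟩ := hu
    rcases h (w * u) (q ^ j * r ^ k) (Nat.Coprime.mul_left (((Nat.coprime_primes hq hp).2 hqp).pow_left j)
      (((Nat.coprime_primes hr hp).2 hrp).pow_left k)) (by
        rw [(show Commute w u from (mem_cent.1 hwu).symm).mul_pow, pow_mul, hj, one_pow, mul_comm,
          pow_mul, hk, one_pow, one_mul]) with h1 | h1
    · exfalso
      rw [index_cent_eq_one_iff, ← cent_eq_top_iff, he] at h1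
      exact hwZ (cent_eq_top_iff.1 (eq_top_iff.2 (h1 ▸ inf_le_left)))
    · exact h1
  have h1 : cent (w * u) = cent w :=
    eq_of_le_of_index_le (he ▸ inf_le_left) (by rw [hwu', hiw])
  have h2 : cent (w * u) = cent u :=
    eq_of_le_of_index_le (he ▸ inf_le_right) (by rw [hwu', hiu])
  rw [← h2, h1]

theorem TwoSizes.has_other (hp : p.Prime) (h : TwoSizes G p d) {q r : ℕ} (hq : q.Prime)
    (hr : r.Prime) (hqp : q ≠ p) (hrp : r ≠ p) {w : G} (hw : PEl q w)
    (hwZ : w ∉ Subgroup.center G) (hR : NC G r) : Has r (cent w) := by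
  obtain ⟨u, hu, huZ⟩ := hR
  exact (has_congr hr (center_le_cent u) (center_le_cent w)
    (by rw [h.index_eq hp hr hrp hu huZ, h.index_eq hp hq hqp hw hwZ])).1
    ⟨u, self_mem_cent u, hu, huZ⟩

theorem TwoSizes.cent_eq_of_mem (hp : p.Prime) (h : TwoSizes G p d) {q r : ℕ} (hq : q.Prime)
    (hr : r.Prime) (hqp : q ≠ p) (hrp : r ≠ p) (hqr : q ≠ r) {w : G} (hw : PEl q w)
    (hwZ : w ∉ Subgroup.center G) (hR : NC G r) {l : ℕ} (hl : l.Prime) (hlp : l ≠ p) {x : G}
    (hx : x ∈ cent w) (hxl : PEl l x) (hxZ : x ∉ Subgroup.center G) : cent x = cent w := by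
  rcases ne_or_eq q l with hql | rfl
  · exact h.same hp hq hl hqp hlp hql hw hwZ hxl hxZ hx
  · obtain ⟨u, hu, hur, huZ⟩ := h.has_other hp hq hr hqp hrp hw hwZ hR
    have h1 := h.same hp hq hr hqp hrp hqr hw hwZ hur huZ hu
    rw [← h1]
    exact h.same hp hr hq hrp hqp hqr.symm hur huZ hxl hxZ (h1.symm ▸ hx)

/-- With two primes other than `p` having noncentral elements, `d` is a power of `p`. -/
theorem TwoSizes.not_dvd (hOS : OddChar.OddSolvable.{u}) (hp : p.Prime) (h : TwoSizes G p d)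
    {q r : ℕ} (hq : q.Prime) (hr : r.Prime) (hqp : q ≠ p) (hrp : r ≠ p) (hqr : q ≠ r)
    (hQ : NC G q) (hR : NC G r) {l : ℕ} (hl : l.Prime) (hlp : l ≠ p) : ¬ l ∣ d := by
  intro hld
  classical
  obtain ⟨e, he, heZ⟩ := hQ
  have hed := h.index_eq hp hq hqp he heZ
  have hL : NC G l := by
    by_contra hc
    exact not_dvd_index_of_not_nc hl hc e (by rw [hed]; exact hld)
  obtain ⟨w, hw, hwZ⟩ := hL
  have hwd := h.index_eq hp hl hlp hw hwZ
  obtain ⟨m, hm, hmp, hml, hM⟩ : ∃ m : ℕ, m.Prime ∧ m ≠ p ∧ m ≠ l ∧ NC G m := by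
    rcases ne_or_eq q l with hql | rfl
    · exact ⟨q, hq, hqp, hql, e, he, heZ⟩
    · exact ⟨r, hr, hrp, hqr.symm, hR⟩
  have hpart : ∀ k : ℕ, k.Prime → k ≠ p → NC G k → k ∣ d → CentralPart (cent w) k := by
    intro k hk hkp hK hkd
    refine ⟨fun x hx hxk hxZ => h.cent_eq_of_mem hp hl hm hlp hmp hml.symm hw hwZ hM hk hkp hx hxk hxZ,
      h.has_other hp hl hk hlp hkp hw hwZ hK, by rw [hwd]; exact hkd⟩
  have honly : ∀ k : ℕ, k.Prime → k ≠ p → k ≠ l → ¬ k ∣ d := by
    intro k hk hkp hkl hkd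
    have hK : NC G k := by
      by_contra hc
      exact not_dvd_index_of_not_nc hk hc e (by rw [hed]; exact hkd)
    exact false_of_centralParts hOS hl hk hkl.symm (hpart l hl hlp ⟨w, hw, hwZ⟩ hld)
      (hpart k hk hkp hK hkd)
  -- the group is soluble
  have hsolv : Group.IsSolvable G := by
    refine solvable_of_twoPrimeClasses hp hl _ G le_rfl fun x k hk hkp hx j hj hjp hjl hd => ?_
    by_cases hxZ : x ∈ Subgroup.center G
    · rw [index_cent_eq_one_iff.2 hxZ, Nat.dvd_one] at hd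
      exact hj.ne_one hd
    · rw [h.index_eq hp hk hkp hx hxZ] at hd
      exact honly j hj hjp hjl hd
  haveI := Fact.mk hm
  have hmd : ¬ m ∣ d := honly m hm hmp hml
  obtain ⟨g, hgN, hgK, hgl, -⟩ := (hpart l hl hlp ⟨w, hw, hwZ⟩ hld).exists_normalizing hl
  obtain ⟨P, hP⟩ := ClassCover.exists_sylow_of_mem m (x := w)
    (show ¬ m ∣ (cent w).index by rw [hwd]; exact hmd)
  have hPK : (P : Subgroup G) ≤ cent w := fun y hy =>
    mem_cent.2 (Subgroup.mem_centralizer_iff.1 hP y hy)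
  have hinP : ∀ x ∈ cent w, PEl m x → x ∈ (P : Subgroup G) := by
    intro x hx hxm
    have hcommP : ∀ y ∈ (P : Subgroup G), x * y = y * x := by
      intro y hy
      by_cases hxZ : x ∈ Subgroup.center G
      · exact (Subgroup.mem_center_iff.1 hxZ y).symm
      · have hce := h.cent_eq_of_mem hp hl hm hlp hmp hml.symm hw hwZ hM hm hmp hx hxm hxZ
        exact (mem_cent.1 (show y ∈ cent x by rw [hce]; exact hPK hy)).symm
    have hz : IsPGroup m (Subgroup.zpowers x) := PEl.isPGroup_of_forall fun y hy => by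
      obtain ⟨n, rfl⟩ := Subgroup.mem_zpowers_iff.1 hy
      obtain ⟨j, hj⟩ := hxm
      exact ⟨j, by rw [← zpow_natCast, ← zpow_mul, mul_comm, zpow_mul, zpow_natCast, hj, one_zpow]⟩
    have hle : Subgroup.zpowers x ≤ Subgroup.normalizer ((P : Subgroup G) : Set G) :=
      Subgroup.zpowers_le.2 (Subgroup.centralizer_le_normalizer _
        (Subgroup.mem_centralizer_iff.2 fun y hy => (hcommP y hy).symm))
    have h1 : IsPGroup m ((P : Subgroup G) ⊔ Subgroup.zpowers x : Subgroup G) :=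
      P.isPGroup'.to_sup_of_normal_left' hz hle
    exact P.3 h1 le_sup_left ▸ Subgroup.mem_sup_right (Subgroup.mem_zpowers x)
  have hgd : ¬ m ∣ (cent g).index := by
    by_cases hgZ : g ∈ Subgroup.center G
    · rw [index_cent_eq_one_iff.2 hgZ, Nat.dvd_one]; exact hm.ne_one
    · rw [h.index_eq hp hl hlp hgl hgZ]; exact hmd
  obtain ⟨P', hP'⟩ := ClassCover.exists_sylow_of_mem m (x := g) hgd
  obtain ⟨k, hk⟩ := hgl
  obtain ⟨u, huK, hum, huZ⟩ := h.has_other hp hl hm hlp hmp hw hwZ hM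
  have hgu := mem_centralizer_of_conj hm _ G le_rfl hsolv (P : Subgroup G) (P' : Subgroup G)
    P.isPGroup' P.not_dvd_index P'.isPGroup' P'.not_dvd_index g (l ^ k)
    (((Nat.coprime_primes hm hl).2 hml).pow_right k) hk
    (fun x hx => hinP _ ((Subgroup.mem_normalizer_iff.1 hgN x).1 (hPK hx))
      ((PEl.of_isPGroup P.isPGroup' hx).conj g))
    (fun x hx => (Subgroup.mem_centralizer_iff.1 hP' x hx).symm) u (hinP u huK hum)
  refine hgK ?_
  rw [← h.cent_eq_of_mem hp hl hm hlp hmp hml.symm hw hwZ hM hm hmp huK hum huZ]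
  exact mem_cent.2 hgu

end Cfsg.Agent.ThreeSizes
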