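import Cfsg.Agent.Lib.ThreeSizes.Basic
import Cfsg.Agent.Lib.OddChar.Iface
import Cfsg.Agent.Lib.Solvable.Structure
import Mathlib

/-!
The key lemma: a centralizer cannot have two central, non-Sylow primary parts whose noncentral
elements all have this centralizer. Uses solvability of groups of odd order.
-/

set_option autoImplicit false
set_option linter.style.haveILetI false
set_option linter.unusedSectionVars false

namespace Cfsg.Agent.ThreeSizes

open Cfsg.Agent

/-- A Frobenius type identity: if all the norms vanish then so does `t`. -/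
theorem pow_eq_one_of_norms {V M : Type*} [Group V] [CommGroup M] (φ : V →* MulAut M) {g h : V}
    {m t : ℕ} (hm : 0 < m) (ht : h ^ t = 1) (x : ℕ → V) (c : ℕ → ℕ)
    (hx : ∀ i j : ℕ, 0 < j → j < m → x i ^ j = h ^ (i * c j) * g ^ j)
    (hc : ∀ j : ℕ, 0 < j → j < m → (c j).Coprime t)
    (Nx : ∀ (i : ℕ) (β : M), ∏ j ∈ Finset.range m, φ (x i ^ j) β = 1)
    (Nh : ∀ β : M, ∏ i ∈ Finset.range t, φ (h ^ i) β = 1) (β : M) : β ^ t = 1 := by
  classical
  obtain ⟨m', rfl⟩ : ∃ m', m = m' + 1 := ⟨m - 1, by omega⟩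
  have h0 : ∏ i ∈ Finset.range t, ∏ j ∈ Finset.range (m' + 1), φ (x i ^ j) β = 1 :=
    Finset.prod_eq_one fun i _ => Nx i β
  rw [Finset.prod_comm, Finset.prod_range_succ'] at h0
  have h1 : ∏ j ∈ Finset.range m', ∏ i ∈ Finset.range t, φ (x i ^ (j + 1)) β = 1 := by
    refine Finset.prod_eq_one fun j hj => ?_
    rw [Finset.mem_range] at hj
    have hj0 : 0 < j + 1 := Nat.succ_pos j
    have hjm : j + 1 < m' + 1 := by omega
    rcases Nat.eq_zero_or_pos t with ht0 | ht0
    · subst ht0; simp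
    refine Eq.trans ?_ (Nh (φ (g ^ (j + 1)) β))
    have hinj : Set.InjOn (fun i => i * c (j + 1) % t) (Finset.range t) := by
      intro a ha b hb hab
      rw [Finset.mem_coe, Finset.mem_range] at ha hb
      exact (Nat.ModEq.cancel_right_of_coprime (hc _ hj0 hjm).symm hab).eq_of_lt_of_lt ha hb
    have hmaps : Set.MapsTo (fun i => i * c (j + 1) % t) (Finset.range t) (Finset.range t) :=
      fun a _ => Finset.mem_range.2 (Nat.mod_lt _ ht0)
    refine Finset.prod_nbij (fun i => i * c (j + 1) % t) hmaps hinj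
      (Finset.surjOn_of_injOn_of_card_le _ hmaps hinj le_rfl) fun i _ => ?_
    rw [hx i (j + 1) hj0 hjm, map_mul, MulAut.mul_apply, ← pow_eq_pow_mod _ ht]
  rw [h1, one_mul] at h0
  simpa using h0

section

variable {G : Type*} [Group G] [Finite G]

/-- `K` has a central `u`-part, not Sylow in `G`, whose noncentral elements have centralizer `K`. -/
structure CentralPart (K : Subgroup G) (u : ℕ) : Prop where
  cent_eq : ∀ x ∈ K, PEl u x → x ∉ Subgroup.center G → cent x = K
  has : Has u K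
  dvd : u ∣ K.index

/-- The quotient of the normalizer by `K`. -/
abbrev quot (K : Subgroup G) : Type _ :=
  Subgroup.normalizer (K : Set G) ⧸ K.subgroupOf (Subgroup.normalizer (K : Set G))

variable {K : Subgroup G} {u : ℕ} (hK : CentralPart K u)

include hK

theorem CentralPart.comm {x y : G} (hx : x ∈ K) (hxu : PEl u x) (hy : y ∈ K) : Commute x y := by
  by_cases hZ : x ∈ Subgroup.center G
  · exact (Subgroup.mem_center_iff.1 hZ y).symm
  · rw [← hK.cent_eq x hx hxu hZ] at hy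
    exact (mem_cent.1 hy).symm

/-- The `u`-part of `K`. -/
def CentralPart.part : Subgroup G where
  carrier := {x | x ∈ K ∧ PEl u x}
  one_mem' := ⟨K.one_mem, PEl.one u⟩
  mul_mem' := fun {a b} ha hb => ⟨K.mul_mem ha.1 hb.1, ha.2.mul (hK.comm ha.1 ha.2 hb.1) hb.2⟩
  inv_mem' := fun {a} ha => ⟨K.inv_mem ha.1, ha.2.inv⟩

theorem CentralPart.free {x g : G} (hx : x ∈ hK.part) (hZ : x ∉ Subgroup.center G)
    (hg : g * x * g⁻¹ = x) : g ∈ K := by
  rw [← hK.cent_eq x hx.1 hx.2 hZ, mem_cent]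
  calc g * x = (g * x * g⁻¹) * g := by group
    _ = x * g := by rw [hg]

theorem CentralPart.conj_mem {g x : G} (hg : g ∈ Subgroup.normalizer (K : Set G))
    (hx : x ∈ hK.part) : g * x * g⁻¹ ∈ hK.part :=
  ⟨(Subgroup.mem_normalizer_iff.1 hg x).1 hx.1, hx.2.conj g⟩

theorem CentralPart.part_comm {x y : G} (hx : x ∈ hK.part) (hy : y ∈ hK.part) : x * y = y * x :=
  (hK.comm hx.1 hx.2 hy.1).eq

/-- Some `u`-element normalizes `K` without lying in it. -/
theorem CentralPart.exists_normalizing (hu : u.Prime) :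
    ∃ h ∈ Subgroup.normalizer (K : Set G), h ∉ K ∧ PEl u h ∧ h ^ u ∈ K := by
  classical
  haveI := Fact.mk hu
  have hA : IsPGroup u hK.part := PEl.isPGroup_of_forall fun x hx => hx.2
  obtain ⟨S, hS⟩ := hA.exists_le_sylow
  have hlt : hK.part < (S : Subgroup G) := by
    refine lt_of_le_of_ne hS fun he => ?_
    have h1 : (S : Subgroup G) ≤ K := he ▸ fun x hx => hx.1
    exact S.not_dvd_index (hK.dvd.trans (Subgroup.index_dvd_of_le h1))
  haveI := S.isPGroup'.isNilpotent
  have hne : hK.part.subgroupOf (S : Subgroup G) ≠ ⊤ := fun h =>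
    not_le_of_gt hlt (Subgroup.subgroupOf_eq_top.1 h)
  obtain ⟨⟨h, hhS⟩, hn, hnot⟩ := SetLike.exists_of_lt
    (Group.normalizerCondition_of_isNilpotent _ hne.lt_top)
  have hnot' : h ∉ hK.part := fun h' => hnot (Subgroup.mem_subgroupOf.2 h')
  obtain ⟨e, he, heu, heZ⟩ := hK.has
  have heA : e ∈ hK.part := ⟨he, heu⟩
  have hconj : ∀ x, x ∈ hK.part ↔ h * x * h⁻¹ ∈ hK.part := by
    intro x
    constructor
    · intro hx
      exact Subgroup.mem_subgroupOf.1
        ((Subgroup.mem_normalizer_iff.1 hn ⟨x, hS hx⟩).1 (Subgroup.mem_subgroupOf.2 hx))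
    · intro hx
      have hxS : x ∈ (S : Subgroup G) := by
        have := S.mul_mem (S.mul_mem ((S : Subgroup G).inv_mem hhS) (hS hx)) hhS
        simpa [mul_assoc] using this
      exact Subgroup.mem_subgroupOf.1 ((Subgroup.mem_normalizer_iff.1 hn ⟨x, hxS⟩).2
        (Subgroup.mem_subgroupOf.2 hx))
  have hN : h ∈ Subgroup.normalizer (K : Set G) := by
    have h1 : h * e * h⁻¹ ∈ hK.part := (hconj e).1 heA
    have h2 : h * e * h⁻¹ ∉ Subgroup.center G := fun hc => heZ (by
      have := (inferInstance : (Subgroup.center G).Normal).conj_mem _ hc h⁻¹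
      simpa [mul_assoc] using this)
    have hce : cent (h * e * h⁻¹) = K := hK.cent_eq _ h1.1 h1.2 h2
    refine Subgroup.mem_normalizer_iff.2 fun x => ?_
    conv_lhs => rw [← hK.cent_eq e he heu heZ]
    conv_rhs => rw [← hce]
    rw [mem_cent, mem_cent]
    constructor <;> intro hh
    · calc h * x * h⁻¹ * (h * e * h⁻¹) = h * (x * e) * h⁻¹ := by group
        _ = h * (e * x) * h⁻¹ := by rw [hh]
        _ = h * e * h⁻¹ * (h * x * h⁻¹) := by group
    · calc x * e = h⁻¹ * (h * x * h⁻¹ * (h * e * h⁻¹)) * h := by group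
        _ = h⁻¹ * (h * e * h⁻¹ * (h * x * h⁻¹)) * h := by rw [hh]
        _ = e * x := by group
  have hhu : PEl u h := PEl.of_isPGroup S.isPGroup' hhS
  have hhK : h ∉ K := fun h' => hnot' ⟨h', hhu⟩
  obtain ⟨k, hk⟩ := hhu
  have hex : ∃ j, h ^ u ^ j ∈ K := ⟨k, hk ▸ K.one_mem⟩
  obtain ⟨j, hj⟩ : ∃ j, Nat.find hex = j + 1 := by
    rcases Nat.eq_zero_or_pos (Nat.find hex) with h0 | h0
    · have := Nat.find_spec hex
      rw [h0, pow_zero, pow_one] at this
      exact absurd this hhK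
    · exact ⟨Nat.find hex - 1, by omega⟩
  refine ⟨h ^ u ^ j, Subgroup.pow_mem _ hN _, Nat.find_min hex (by omega),
    PEl.pow (u := u) ⟨k, hk⟩ _, ?_⟩
  rw [← pow_mul, ← pow_succ, ← hj]
  exact Nat.find_spec hex

/-- A coprime element centralizing a coset modulo the center centralizes the element. -/
theorem CentralPart.coprime_fix {g x : G} {n : ℕ} (hgN : g ∈ Subgroup.normalizer (K : Set G))
    (hn : u.Coprime n) (hgn : g ^ n = 1) (hx : x ∈ hK.part)
    (hc : g * x * g⁻¹ * x⁻¹ ∈ Subgroup.center G) : g * x * g⁻¹ = x := by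
  set z := g * x * g⁻¹ * x⁻¹ with hz
  have hzc : ∀ y : G, y * z = z * y := Subgroup.mem_center_iff.1 hc
  have key : ∀ i : ℕ, g ^ i * x * (g ^ i)⁻¹ = z ^ i * x := by
    intro i
    induction i with
    | zero => simp
    | succ i ih =>
      calc g ^ (i + 1) * x * (g ^ (i + 1))⁻¹ = g * (g ^ i * x * (g ^ i)⁻¹) * g⁻¹ := by group
        _ = (g * z ^ i) * x * g⁻¹ := by rw [ih]; group
        _ = (z ^ i * g) * x * g⁻¹ := by rw [((show Commute g z from hzc g).pow_right i).eq]
        _ = z ^ i * (z * x) := by rw [hz]; group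
        _ = z ^ (i + 1) * x := by group
  have h1 : z ^ n = 1 := by
    have := key n
    rw [hgn, inv_one, one_mul, mul_one] at this
    exact (mul_eq_right.1 this.symm)
  have hzA : z ∈ hK.part := hK.part.mul_mem (hK.conj_mem hgN hx) (hK.part.inv_mem hx)
  have := hzA.2.eq_one_of_pow hn h1
  rw [hz, mul_inv_eq_one] at this
  exact this

/-- A `u`-element of the normalizer fixes a noncentral element modulo the center. -/
theorem CentralPart.exists_fixed (hu : u.Prime) {h : G}
    (hhN : h ∈ Subgroup.normalizer (K : Set G)) (hh : PEl u h) :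
    ∃ b ∈ hK.part, b ∉ Subgroup.center G ∧ h * b * h⁻¹ * b⁻¹ ∈ Subgroup.center G := by
  classical
  haveI := Fact.mk hu
  have hA : IsPGroup u hK.part := PEl.isPGroup_of_forall fun x hx => hx.2
  have hz : IsPGroup u (Subgroup.zpowers h) := PEl.isPGroup_of_forall fun y hy => by
    obtain ⟨n, rfl⟩ := Subgroup.mem_zpowers_iff.1 hy
    obtain ⟨k, hk⟩ := hh
    exact ⟨k, by rw [← zpow_natCast, ← zpow_mul, mul_comm, zpow_mul, zpow_natCast, hk, one_zpow]⟩
  have hnorm : ∀ g ∈ Subgroup.normalizer (K : Set G),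
      g ∈ Subgroup.normalizer (hK.part : Set G) := by
    intro g hg
    refine Subgroup.mem_normalizer_iff.2 fun x => ⟨fun hx => hK.conj_mem hg hx, fun hx => ?_⟩
    have := hK.conj_mem (Subgroup.inv_mem _ hg) hx
    simpa [mul_assoc] using this
  have hle : Subgroup.zpowers h ≤ Subgroup.normalizer (hK.part : Set G) :=
    Subgroup.zpowers_le.2 (hnorm h hhN)
  set P := hK.part ⊔ Subgroup.zpowers h with hP
  have hPu : IsPGroup u P := hA.to_sup_of_normal_left' hz hle
  haveI := hPu.isNilpotent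
  haveI hAn : (hK.part.subgroupOf P).Normal :=
    Subgroup.normal_subgroupOf_of_le_normalizer (sup_le Subgroup.le_normalizer hle)
  haveI : ((Subgroup.center G).subgroupOf P).Normal := Subgroup.Normal.subgroupOf inferInstance P
  let π := QuotientGroup.mk' ((Subgroup.center G).subgroupOf P)
  haveI : ((hK.part.subgroupOf P).map π).Normal :=
    hAn.map π (QuotientGroup.mk'_surjective _)
  obtain ⟨e, he, heu, heZ⟩ := hK.has
  have hne : (hK.part.subgroupOf P).map π ≠ ⊥ := by
    intro hbot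
    rw [Subgroup.map_eq_bot_iff, QuotientGroup.ker_mk'] at hbot
    exact heZ (hbot (show (⟨e, Subgroup.mem_sup_left (⟨he, heu⟩ : e ∈ hK.part)⟩ : P) ∈
      hK.part.subgroupOf P from ⟨he, heu⟩))
  obtain ⟨⟨β, hβ⟩, hβ1⟩ := Subgroup.ne_bot_iff_exists_ne_one.1 (SolvStruct.inf_center_ne_bot hne)
  obtain ⟨b, hb, rfl⟩ := hβ.1
  refine ⟨b, hb, fun hbc => hβ1 (Subtype.ext ?_), ?_⟩
  · exact (QuotientGroup.eq_one_iff b).2 hbc
  · let h' : P := ⟨h, Subgroup.mem_sup_right (Subgroup.mem_zpowers h)⟩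
    have h1 : π (h' * b * h'⁻¹ * b⁻¹) = 1 := by
      rw [map_mul, map_mul, map_mul, map_inv, map_inv, Subgroup.mem_center_iff.1 hβ.2 (π h')]
      group
    exact Subgroup.mem_subgroupOf.1 ((QuotientGroup.eq_one_iff _).1 h1)

theorem CentralPart.inv_mem {e x : G} (heN : e ∈ Subgroup.normalizer (K : Set G)) (heK : e ∉ K)
    (he2 : e * e ∈ K) (hx : x ∈ hK.part) : x * (e * x * e⁻¹) ∈ Subgroup.center G := by
  by_contra hc
  refine heK (hK.free (hK.part.mul_mem hx (hK.conj_mem heN hx)) hc ?_)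
  calc e * (x * (e * x * e⁻¹)) * e⁻¹ = e * x * e⁻¹ * ((e * e) * x * (e * e)⁻¹) := by group
    _ = e * x * e⁻¹ * (x * (e * e) * (e * e)⁻¹) := by rw [(hK.comm hx.1 hx.2 he2).eq]
    _ = e * x * e⁻¹ * x := by group
    _ = x * (e * x * e⁻¹) := hK.part_comm (hK.conj_mem heN hx) hx

omit hK

variable {s t : ℕ} (hs : s.Prime) (ht : t.Prime) (hst : s ≠ t)
  (hS : CentralPart K s) (hT : CentralPart K t)

include hs ht hst hS hT

/-- An element of the normalizer acting trivially on both parts modulo the center lies in `K`. -/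
theorem mem_of_trivial {k : G} (hkN : k ∈ Subgroup.normalizer (K : Set G))
    (h1 : ∀ x ∈ hS.part, k * x * k⁻¹ * x⁻¹ ∈ Subgroup.center G)
    (h2 : ∀ x ∈ hT.part, k * x * k⁻¹ * x⁻¹ ∈ Subgroup.center G) : k ∈ K := by
  by_contra hk
  obtain ⟨l, n, hl, hy, hyK⟩ := exists_primary_not_mem hk
  have hyN : k ^ n ∈ Subgroup.normalizer (K : Set G) := Subgroup.pow_mem _ hkN n
  have hpow : ∀ (A : Subgroup G), (∀ x ∈ A, k * x * k⁻¹ * x⁻¹ ∈ Subgroup.center G) →
      ∀ x ∈ A, ∀ i : ℕ, k ^ i * x * (k ^ i)⁻¹ * x⁻¹ ∈ Subgroup.center G := by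
    intro A hA x hx i
    induction i with
    | zero => simp
    | succ i ih =>
      have e : k ^ (i + 1) * x * (k ^ (i + 1))⁻¹ * x⁻¹ =
          (k * (k ^ i * x * (k ^ i)⁻¹ * x⁻¹) * k⁻¹) * (k * x * k⁻¹ * x⁻¹) := by group
      rw [e]
      exact mul_mem ((inferInstance : (Subgroup.center G).Normal).conj_mem _ ih k) (hA x hx)
  obtain ⟨j, hj⟩ := hy
  rcases eq_or_ne l s with rfl | hls
  · obtain ⟨e, he, heu, heZ⟩ := hT.has
    exact hyK (hT.free ⟨he, heu⟩ heZ (hT.coprime_fix hyN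
      (((Nat.coprime_primes ht hl).2 (Ne.symm hst)).pow_right j) hj ⟨he, heu⟩
      (hpow _ h2 e ⟨he, heu⟩ n)))
  · obtain ⟨e, he, heu, heZ⟩ := hS.has
    exact hyK (hS.free ⟨he, heu⟩ heZ (hS.coprime_fix hyN
      (((Nat.coprime_primes hs hl).2 (Ne.symm hls)).pow_right j) hj ⟨he, heu⟩
      (hpow _ h1 e ⟨he, heu⟩ n)))

/-- An element inverting both parts excludes an odd prime `t`. -/
theorem false_of_involution (ht2 : t ≠ 2) {e : G} (heN : e ∈ Subgroup.normalizer (K : Set G))
    (heK : e ∉ K) (he2 : e * e ∈ K) : False := by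
  classical
  obtain ⟨h, hhN, hhK, hhu, -⟩ := hT.exists_normalizing ht
  obtain ⟨b, hb, hbZ, hz⟩ := hT.exists_fixed ht hhN hhu
  set k := e * h * e⁻¹ * h⁻¹ with hkdef
  have hkN : k ∈ Subgroup.normalizer (K : Set G) :=
    Subgroup.mul_mem _ (Subgroup.mul_mem _ (Subgroup.mul_mem _ heN hhN) (Subgroup.inv_mem _ heN))
      (Subgroup.inv_mem _ hhN)
  have htriv : ∀ {v : ℕ} (hV : CentralPart K v), ∀ a ∈ hV.part,
      k * a * k⁻¹ * a⁻¹ ∈ Subgroup.center G := by
    intro v hV a ha
    let π := QuotientGroup.mk' (Subgroup.center G)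
    have hinv : ∀ x ∈ hV.part, π (e * x * e⁻¹) = (π x)⁻¹ := fun x hx => by
      rw [eq_inv_iff_mul_eq_one, ← map_mul, hV.part_comm (hV.conj_mem heN hx) hx]
      exact (QuotientGroup.eq_one_iff _).2 (hV.inv_mem heN heK he2 hx)
    have hX : h⁻¹ * a * h ∈ hV.part := by
      simpa using hV.conj_mem (Subgroup.inv_mem _ hhN) ha
    have hY : e⁻¹ * (h⁻¹ * a * h) * e = e * (h⁻¹ * a * h) * e⁻¹ := by
      calc e⁻¹ * (h⁻¹ * a * h) * e = e * ((e * e)⁻¹ * ((h⁻¹ * a * h) * (e * e))) * e⁻¹ := by group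
        _ = e * ((e * e)⁻¹ * ((e * e) * (h⁻¹ * a * h))) * e⁻¹ := by
          rw [(hV.comm hX.1 hX.2 he2).eq]
        _ = e * (h⁻¹ * a * h) * e⁻¹ := by group
    have hYA : e * (h⁻¹ * a * h) * e⁻¹ ∈ hV.part := hV.conj_mem heN hX
    have hkey : π (k * a * k⁻¹) = π a := by
      have e1 : k * a * k⁻¹ =
          e * (h * (e⁻¹ * (h⁻¹ * a * h) * e) * h⁻¹) * e⁻¹ := by rw [hkdef]; group
      rw [e1, hY, hinv _ (hV.conj_mem hhN hYA), map_mul, map_mul, hinv _ hX]
      simp only [map_mul, map_inv]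
      group
    exact (QuotientGroup.eq_one_iff _).1 (show π (k * a * k⁻¹ * a⁻¹) = 1 by
      rw [map_mul, hkey, map_inv, mul_inv_cancel])
  have hkK : k ∈ K := mem_of_trivial hs ht hst hS hT hkN (htriv hS) (htriv hT)
  set z := h * b * h⁻¹ * b⁻¹ with hzdef
  have hzc : ∀ y : G, y * z = z * y := Subgroup.mem_center_iff.1 hz
  set c := b * (e * b * e⁻¹) with hcdef
  have hc : ∀ y : G, y * c = c * y := Subgroup.mem_center_iff.1 (hT.inv_mem heN heK he2 hb)
  have hkb : k * b⁻¹ = b⁻¹ * k :=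
    ((hT.comm (K.inv_mem hb.1) hb.2.inv hkK).eq).symm
  have e1 : e * h * e⁻¹ * (e * b * e⁻¹) * (e * h * e⁻¹)⁻¹ = z * (e * b * e⁻¹) := by
    calc _ = e * (z * b) * e⁻¹ := by rw [hzdef]; group
      _ = (e * z) * b * e⁻¹ := by group
      _ = (z * e) * b * e⁻¹ := by rw [hzc e]
      _ = _ := by group
  have e2 : e * b * e⁻¹ = b⁻¹ * c := by rw [hcdef]; group
  have e3 : e * h * e⁻¹ * (e * b * e⁻¹) * (e * h * e⁻¹)⁻¹ = z⁻¹ * (b⁻¹ * c) := by
    calc _ = k * (h * (b⁻¹ * c) * h⁻¹) * k⁻¹ := by rw [e2, hkdef]; group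
      _ = k * (h * b⁻¹ * (c * h⁻¹)) * k⁻¹ := by group
      _ = k * (h * b⁻¹ * (h⁻¹ * c)) * k⁻¹ := by rw [hc h⁻¹]
      _ = k * (b⁻¹ * z⁻¹ * c) * k⁻¹ := by rw [hzdef]; group
      _ = (k * b⁻¹) * (z⁻¹ * c * k⁻¹) := by group
      _ = (b⁻¹ * k) * (k⁻¹ * (z⁻¹ * c)) := by
        rw [hkb, mul_assoc z⁻¹ c k⁻¹, ← hc k⁻¹, ← mul_assoc z⁻¹ k⁻¹ c,
          ← (show Commute k⁻¹ z from hzc k⁻¹).inv_right.eq]
        group
      _ = (b⁻¹ * z⁻¹) * c := by group
      _ = (z⁻¹ * b⁻¹) * c := by rw [(show Commute b⁻¹ z from hzc b⁻¹).inv_right.eq]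
      _ = _ := by group
  rw [e1, e2, mul_left_inj] at e3
  have hz2 : z ^ 2 = 1 := by
    rw [sq]
    nth_rewrite 1 [e3]
    exact inv_mul_cancel z
  have hzA : z ∈ hT.part := hT.part.mul_mem (hT.conj_mem hhN hb) (hT.part.inv_mem hb)
  have hz1 : z = 1 :=
    hzA.2.eq_one_of_pow ((Nat.coprime_primes ht Nat.prime_two).2 ht2) hz2
  rw [hzdef, mul_inv_eq_one] at hz1
  exact hhK (hT.free hb hbZ hz1)

/-- Elements of distinct prime orders of the quotient do not commute. -/
theorem false_of_commute {g h : G} (hgN : g ∈ Subgroup.normalizer (K : Set G))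
    (hhN : h ∈ Subgroup.normalizer (K : Set G)) (hgK : g ∉ K) (hhK : h ∉ K) (hg : PEl s g)
    (hh : PEl t h) (hgh : g * h * g⁻¹ * h⁻¹ ∈ K) : False := by
  obtain ⟨b, hb, hbZ, hz⟩ := hT.exists_fixed ht hhN hh
  set z := h * b * h⁻¹ * b⁻¹ with hzdef
  have hzc : ∀ y : G, y * z = z * y := Subgroup.mem_center_iff.1 hz
  set k := g * h * g⁻¹ * h⁻¹ with hkdef
  set B := g * b * g⁻¹ with hBdef
  have hB : B ∈ hT.part := hT.conj_mem hgN hb
  have hhB : h * B * h⁻¹ ∈ hT.part := hT.conj_mem hhN hB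
  have e1 : g * h * g⁻¹ * B * (g * h * g⁻¹)⁻¹ = z * B := by
    calc _ = (g * z) * b * g⁻¹ := by rw [hzdef, hBdef]; group
      _ = (z * g) * b * g⁻¹ := by rw [hzc g]
      _ = _ := by rw [hBdef]; group
  have e2 : g * h * g⁻¹ * B * (g * h * g⁻¹)⁻¹ = h * B * h⁻¹ := by
    calc _ = k * (h * B * h⁻¹) * k⁻¹ := by rw [hkdef]; group
      _ = (h * B * h⁻¹) * k * k⁻¹ := by rw [(hT.comm hhB.1 hhB.2 hgh).eq]
      _ = _ := by group
  have e3 : h * (b⁻¹ * B) * h⁻¹ = b⁻¹ * B := by
    calc h * (b⁻¹ * B) * h⁻¹ = (h * b⁻¹ * h⁻¹) * (h * B * h⁻¹) := by group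
      _ = (b⁻¹ * z⁻¹) * (z * B) := by rw [← e2, e1, hzdef]; group
      _ = b⁻¹ * B := by group
  have hc : b⁻¹ * B ∈ Subgroup.center G := by
    by_contra hc
    exact hhK (hT.free (hT.part.mul_mem (hT.part.inv_mem hb) hB) hc e3)
  obtain ⟨j, hj⟩ := hg
  refine hgK (hT.free hb hbZ (hT.coprime_fix hgN
    (((Nat.coprime_primes ht hs).2 (Ne.symm hst)).pow_right j) hj hb ?_))
  rw [← hBdef, hT.part_comm hB (hT.part.inv_mem hb)]
  exact hc

omit hs ht hst hS hT

section quotient

include hK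

/-- The action of the normalizer on a part modulo the center. -/
@[reducible]
def CentralPart.commGroup : CommGroup hK.part :=
  { (inferInstance : Group hK.part) with
    mul_comm := fun a b => Subtype.ext (hK.part_comm a.2 b.2) }

/-- The part modulo the center of `G`. -/
abbrev CentralPart.M : Type _ :=
  letI := hK.commGroup
  hK.part ⧸ (Subgroup.center G).subgroupOf hK.part

/-- Conjugation on the part. -/
def CentralPart.conjPart (n : Subgroup.normalizer (K : Set G)) : hK.part →* hK.part where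
  toFun x := ⟨(n : G) * x * (n : G)⁻¹, hK.conj_mem n.2 x.2⟩
  map_one' := Subtype.ext (by simp)
  map_mul' := fun x y => Subtype.ext (by simp [mul_assoc])

/-- Conjugation on the part modulo the center. -/
def CentralPart.actHom (n : Subgroup.normalizer (K : Set G)) : hK.M →* hK.M :=
  letI := hK.commGroup
  QuotientGroup.map _ _ (hK.conjPart n) fun x hx => by
    rw [Subgroup.mem_comap, Subgroup.mem_subgroupOf]
    exact (inferInstance : (Subgroup.center G).Normal).conj_mem _ (Subgroup.mem_subgroupOf.1 hx) _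

/-- The action of the normalizer. -/
def CentralPart.act : Subgroup.normalizer (K : Set G) →* MulAut hK.M :=
  letI := hK.commGroup
  MonoidHom.mk' (fun n =>
    { toFun := hK.actHom n
      invFun := hK.actHom n⁻¹
      left_inv := fun β => by
        induction β using QuotientGroup.induction_on with
        | H x =>
          exact congrArg QuotientGroup.mk (Subtype.ext (by simp [CentralPart.conjPart, mul_assoc]))
      right_inv := fun β => by
        induction β using QuotientGroup.induction_on with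
        | H x =>
          exact congrArg QuotientGroup.mk (Subtype.ext (by simp [CentralPart.conjPart, mul_assoc]))
      map_mul' := map_mul (hK.actHom n) })
    fun a b => by
      ext β
      induction β using QuotientGroup.induction_on with
      | H x =>
        exact congrArg QuotientGroup.mk (Subtype.ext (by simp [CentralPart.conjPart, mul_assoc]))

/-- The action of the quotient. -/
def CentralPart.qact : quot K →* MulAut hK.M :=
  letI := hK.commGroup
  QuotientGroup.lift _ hK.act fun n hn => by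
    rw [MonoidHom.mem_ker]
    ext β
    induction β using QuotientGroup.induction_on with
    | H x =>
      refine congrArg QuotientGroup.mk (Subtype.ext ?_)
      show (n : G) * x * (n : G)⁻¹ = x
      rw [← (hK.comm x.2.1 x.2.2 (Subgroup.mem_subgroupOf.1 hn)).eq, mul_inv_cancel_right]

/-- Norms of nontrivial elements of the quotient vanish. -/
theorem CentralPart.norm_eq_one (v : quot K) {m : ℕ} (hv : v ≠ 1) (hvm : v ^ m = 1) (β : hK.M) :
    letI := hK.commGroup
    ∏ j ∈ Finset.range m, hK.qact (v ^ j) β = 1 := by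
  letI := hK.commGroup
  induction v using QuotientGroup.induction_on with
  | H n =>
  induction β using QuotientGroup.induction_on with
  | H x =>
  set C : hK.part := ∏ j ∈ Finset.range m, hK.conjPart (n ^ j) x with hC
  have h1 : (∏ j ∈ Finset.range m, hK.qact ((QuotientGroup.mk n : quot K) ^ j)
      (QuotientGroup.mk x)) = QuotientGroup.mk C := by
    rw [hC]
    refine Eq.trans ?_ (map_prod (QuotientGroup.mk' ((Subgroup.center G).subgroupOf hK.part))
      (fun j => hK.conjPart (n ^ j) x) _).symm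
    exact Finset.prod_congr rfl fun j _ => rfl
  rw [h1, QuotientGroup.eq_one_iff, Subgroup.mem_subgroupOf]
  by_contra hcZ
  have hnK : (n : G) ∉ K := fun h => hv ((QuotientGroup.eq_one_iff n).2 (Subgroup.mem_subgroupOf.2 h))
  refine hnK (hK.free C.2 hcZ (congrArg Subtype.val (show hK.conjPart n C = C from ?_)))
  have hnm : hK.conjPart (n ^ m) x = x := by
    refine Subtype.ext ?_
    rw [← QuotientGroup.mk_pow, QuotientGroup.eq_one_iff, Subgroup.mem_subgroupOf] at hvm
    show ((n ^ m : Subgroup.normalizer (K : Set G)) : G) * x * _ = x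
    rw [← (hK.comm x.2.1 x.2.2 hvm).eq, mul_inv_cancel_right]
  have h2 : hK.conjPart n C * x = C * x := by
    have e : hK.conjPart n C = ∏ j ∈ Finset.range m, hK.conjPart (n ^ (j + 1)) x := by
      rw [hC, map_prod]
      exact Finset.prod_congr rfl fun j _ => Subtype.ext (by
        simp [CentralPart.conjPart, pow_succ', mul_assoc])
    have e0 : hK.conjPart (n ^ 0) x = x := Subtype.ext (by simp [CentralPart.conjPart])
    have e2 := Finset.prod_range_succ' (fun j => hK.conjPart (n ^ j) x) m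
    rw [Finset.prod_range_succ, hnm, e0, ← e] at e2
    exact e2.symm
  exact mul_right_cancel h2

theorem CentralPart.exists_ne_one : ∃ β : hK.M, β ≠ 1 := by
  letI := hK.commGroup
  obtain ⟨e, he, heu, heZ⟩ := hK.has
  exact ⟨QuotientGroup.mk ⟨e, he, heu⟩, fun h => heZ
    (Subgroup.mem_subgroupOf.1 ((QuotientGroup.eq_one_iff _).1 h))⟩

theorem CentralPart.eq_one_of_pow_quot {n : ℕ} (hn : u.Coprime n) (β : hK.M)
    (h : β ^ n = 1) : β = 1 := by
  letI := hK.commGroup
  induction β using QuotientGroup.induction_on with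
  | H x =>
    refine PEl.eq_one_of_pow hn ?_ h
    exact (PEl.restrict x.2.2).map (QuotientGroup.mk' _)

/-- Two commuting elements of prime order `l ≠ u` of the quotient generate the same subgroup. -/
theorem CentralPart.mem_zpowers {l : ℕ} (hl : l.Prime) (hlu : u.Coprime l) {g h : quot K}
    (hg : g ^ l = 1) (hh : h ^ l = 1) (hh1 : h ≠ 1) (hc : Commute g h) :
    g ∈ Subgroup.zpowers h := by
  letI := hK.commGroup
  by_contra hgn
  obtain ⟨β, hβ⟩ := hK.exists_ne_one
  refine hβ (hK.eq_one_of_pow_quot hlu β (pow_eq_one_of_norms (g := g) hK.qact hl.pos hh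
    (fun i => h ^ i * g) id (fun i j _ _ => ?_) (fun j hj0 hjl => ?_) (fun i => ?_)
    (hK.norm_eq_one h hh1 hh) β))
  · rw [(hc.symm.pow_left i).mul_pow, ← pow_mul]; rfl
  · exact (Nat.coprime_of_lt_prime hj0.ne' hjl hl).symm
  · refine hK.norm_eq_one _ (fun he => hgn ?_) ?_
    · rw [mul_eq_one_iff_eq_inv'] at he
      exact he ▸ (Subgroup.zpowers h).inv_mem (Subgroup.npow_mem_zpowers h i)
    · rw [(hc.symm.pow_left i).mul_pow, ← pow_mul, mul_comm, pow_mul, hh, one_pow, hg, one_mul]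

end quotient

end

universe v

/-- The key lemma. -/
theorem false_of_centralParts (hOS : OddChar.OddSolvable.{v}) {G : Type v} [Group G] [Finite G]
    {K : Subgroup G} {s t : ℕ} (hs : s.Prime) (ht : t.Prime) (hst : s ≠ t)
    (hS : CentralPart K s) (hT : CentralPart K t) : False := by
  classical
  by_cases hev : 2 ∣ Nat.card (quot K)
  · haveI := Fact.mk Nat.prime_two
    obtain ⟨w, hw⟩ := exists_prime_orderOf_dvd_card' 2 hev
    obtain ⟨n, rfl⟩ := QuotientGroup.mk_surjective w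
    have hnK : (n : G) ∉ K := fun h => by
      rw [(QuotientGroup.eq_one_iff n).2 (Subgroup.mem_subgroupOf.2 h), orderOf_one] at hw
      omega
    have hn2 : (n : G) * n ∈ K := by
      have := pow_orderOf_eq_one (QuotientGroup.mk n : quot K)
      rw [hw, ← QuotientGroup.mk_pow, QuotientGroup.eq_one_iff, Subgroup.mem_subgroupOf, sq] at this
      exact this
    rcases ne_or_eq t 2 with ht2 | rfl
    · exact false_of_involution hs ht hst hS hT ht2 n.2 hnK hn2
    · exact false_of_involution ht hs hst.symm hT hS hst n.2 hnK hn2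
  haveI : Group.IsSolvable (quot K) :=
    hOS _ (Nat.not_even_iff_odd.1 fun h => hev (even_iff_two_dvd.1 h))
  have hdvd : ∀ {u : ℕ}, u.Prime → CentralPart K u → u ∣ Nat.card (quot K) := by
    intro u hu hU
    obtain ⟨h, hhN, hhK, -, hpow⟩ := hU.exists_normalizing hu
    set w : quot K := QuotientGroup.mk ⟨h, hhN⟩ with hwdef
    have hw1 : w ≠ 1 := fun e => hhK (Subgroup.mem_subgroupOf.1 ((QuotientGroup.eq_one_iff _).1 e))
    have hwu : w ^ u = 1 := by
      rw [hwdef, ← QuotientGroup.mk_pow, QuotientGroup.eq_one_iff, Subgroup.mem_subgroupOf]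
      exact hpow
    haveI := Fact.mk hu
    rw [← orderOf_eq_prime hwu hw1]
    exact orderOf_dvd_natCard w
  obtain ⟨W, ⟨hWs, hWt⟩, hWmin⟩ := Set.Finite.exists_minimal
    (s := {W : Subgroup (quot K) | s ∣ Nat.card W ∧ t ∣ Nat.card W}) (Set.toFinite _)
    ⟨⊤, by rw [Subgroup.card_top]; exact hdvd hs hS, by rw [Subgroup.card_top]; exact hdvd ht hT⟩
  haveI : Nontrivial W := Finite.one_lt_card_iff_nontrivial.1
    (lt_of_lt_of_le hs.one_lt (Nat.le_of_dvd Nat.card_pos hWs))
  obtain h | ⟨M, hM, hMc⟩ := eq_top_or_exists_le_coatom (commutator W)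
  · exact (Group.IsSolvable.commutator_lt_top_of_nontrivial W).ne h
  haveI hMn : M.Normal := Subgroup.Normal.of_commutator_le W hMc
  obtain ⟨x, -, hxM⟩ := SetLike.exists_of_lt hM.lt_top
  obtain ⟨l, hl, hlW⟩ : ∃ l : ℕ, l.Prime ∧ M.index = l := by
    obtain ⟨l, n, hl, hy, hyM⟩ := exists_primary_not_mem hxM
    obtain ⟨k, hk⟩ := hy
    haveI := Fact.mk hl
    set q : W ⧸ M := QuotientGroup.mk (x ^ n) with hq
    have hq1 : q ≠ 1 := fun e => hyM ((QuotientGroup.eq_one_iff _).1 e)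
    obtain ⟨i, -, hi⟩ := (Nat.dvd_prime_pow hl).1 (show orderOf q ∣ l ^ k from
      orderOf_dvd_of_pow_eq_one (by rw [hq, ← QuotientGroup.mk_pow, hk, QuotientGroup.mk_one]))
    obtain ⟨i, rfl⟩ : ∃ i', i = i' + 1 := ⟨i - 1, by
      rcases i with _ | i
      · exact absurd (orderOf_eq_one_iff.1 (by simpa using hi)) hq1
      · rfl⟩
    have hy' : orderOf (q ^ l ^ i) = l := by
      rw [orderOf_pow_of_dvd (pow_ne_zero _ hl.ne_zero) (hi ▸ pow_dvd_pow l i.le_succ), hi,
        pow_succ, Nat.mul_div_cancel_left _ (pow_pos hl.pos _)]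
    obtain ⟨y, hy2⟩ := QuotientGroup.mk_surjective (q ^ l ^ i)
    refine ⟨l, hl, ?_⟩
    have htop : (Subgroup.zpowers (q ^ l ^ i)).comap (QuotientGroup.mk' M) = ⊤ := by
      refine (hM.le_iff.1 ?_).resolve_right fun e => ?_
      · intro m hm
        rw [Subgroup.mem_comap, QuotientGroup.mk'_apply, (QuotientGroup.eq_one_iff m).2 hm]
        exact one_mem _
      · have : y ∈ M := e ▸ (by
          rw [Subgroup.mem_comap, QuotientGroup.mk'_apply, hy2]
          exact Subgroup.mem_zpowers _)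
        rw [(QuotientGroup.eq_one_iff y).2 this] at hy2
        rw [← hy2, orderOf_one] at hy'
        exact hl.one_lt.ne hy'
    have htop' : Subgroup.zpowers (q ^ l ^ i) = ⊤ :=
      Subgroup.comap_injective (QuotientGroup.mk'_surjective M) (htop.trans (Subgroup.comap_top _).symm)
    rw [Subgroup.index, ← Subgroup.card_top (G := W ⧸ M), ← htop', Nat.card_zpowers, hy']
  have hMW : M.map W.subtype < W := by
    refine lt_of_le_of_ne (Subgroup.map_subtype_le M) fun e => hM.1 ?_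
    refine Subgroup.map_injective W.subtype_injective ?_
    rw [e, ← MonoidHom.range_eq_map, Subgroup.range_subtype]
  have hnot : ¬ (s ∣ Nat.card M ∧ t ∣ Nat.card M) := by
    intro h
    rw [← Subgroup.card_map_of_injective W.subtype_injective] at h
    exact not_le_of_gt hMW (hWmin h hMW.le)
  have hcard := M.card_mul_index
  rw [hlW] at hcard
  have hor : ∀ a : ℕ, a.Prime → a ∣ Nat.card W → a ∣ Nat.card M ∨ a = l := by
    intro a ha h
    rw [← hcard] at h
    exact (ha.dvd_mul.1 h).imp_right ((Nat.prime_dvd_prime_iff_eq ha hl).1)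
  -- the configuration, up to symmetry
  obtain ⟨a, b, ha, hb, hab, hA, hB, hbM, haM⟩ : ∃ a b : ℕ, a.Prime ∧ b.Prime ∧ a ≠ b ∧
      CentralPart K a ∧ CentralPart K b ∧ b ∣ Nat.card M ∧ (¬ a ∣ Nat.card M ∧ a ∣ Nat.card W) := by
    rcases hor s hs hWs with h1 | h1 <;> rcases hor t ht hWt with h2 | h2
    · exact absurd ⟨h1, h2⟩ hnot
    · exact ⟨t, s, ht, hs, hst.symm, hT, hS, h1, fun h => hnot ⟨h1, h⟩, hWt⟩
    · exact ⟨s, t, hs, ht, hst, hS, hT, h2, fun h => hnot ⟨h, h2⟩, hWs⟩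
    · exact absurd (h1.trans h2.symm) hst
  haveI := Fact.mk ha
  haveI := Fact.mk hb
  obtain ⟨T⟩ : Nonempty (Sylow b M) := inferInstance
  set N₁ := Subgroup.normalizer (((T : Subgroup M).map M.subtype : Subgroup W) : Set W) with hN₁
  have hsup : N₁ ⊔ M = ⊤ := Sylow.normalizer_sup_eq_top T
  have haN : a ∣ Nat.card N₁ := by
    have h1 := SolvBasic.card_sup_mul_card_inf (N := M) (H := N₁) Subgroup.le_normalizer_of_normal
    rw [sup_comm, inf_comm] at h1
    have h2 : a ∣ Nat.card N₁ * Nat.card M := by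
      rw [hsup, Subgroup.card_top] at h1
      rw [mul_comm, ← h1]
      exact dvd_mul_of_dvd_left haM.2 _
    exact (ha.dvd_mul.1 h2).resolve_right haM.1
  obtain ⟨g, hg⟩ := exists_prime_orderOf_dvd_card' a haN
  set P : Subgroup (quot K) := ((T : Subgroup M).map M.subtype).map W.subtype with hPdef
  have hPb : IsPGroup b P := (T.isPGroup'.map _).map _
  have hPne : P ≠ ⊥ := by
    rw [hPdef, Ne, Subgroup.map_eq_bot_iff_of_injective _ W.subtype_injective,
      Subgroup.map_eq_bot_iff_of_injective _ M.subtype_injective]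
    exact T.ne_bot_of_dvd_card hbM
  haveI : Nontrivial P := (Subgroup.nontrivial_iff_ne_bot P).2 hPne
  have hbZ : b ∣ Nat.card (Subgroup.center P) := by
    haveI := hPb.center_nontrivial
    obtain ⟨n, hn⟩ := IsPGroup.iff_card.1 (hPb.to_subgroup (Subgroup.center P))
    have hn0 : n ≠ 0 := by
      rintro rfl
      rw [pow_zero] at hn
      exact (Finite.one_lt_card (α := Subgroup.center P)).ne' hn
    exact hn ▸ dvd_pow_self b hn0
  obtain ⟨c₀, hc₀⟩ := exists_prime_orderOf_dvd_card' b hbZ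
  set c : quot K := ((c₀ : P) : quot K) with hc
  have hcb : orderOf c = b := by rw [hc, Subgroup.orderOf_coe, Subgroup.orderOf_coe, hc₀]
  have hcb' : c ^ b = 1 := hcb ▸ pow_orderOf_eq_one c
  have hc1 : c ≠ 1 := fun e => hb.one_lt.ne' (hcb.symm.trans (by rw [e, orderOf_one]))
  set G₁ : quot K := ((g : W) : quot K) with hG₁
  have hgo : orderOf G₁ = a := by rw [hG₁, Subgroup.orderOf_coe, Subgroup.orderOf_coe, hg]
  have hga : G₁ ^ a = 1 := hgo ▸ pow_orderOf_eq_one G₁
  have hg1 : G₁ ≠ 1 := fun e => ha.one_lt.ne' (hgo.symm.trans (by rw [e, orderOf_one]))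
  have hgP : G₁ * c * G₁⁻¹ ∈ P := by
    obtain ⟨w, hw, hwc⟩ := (c₀ : P).2
    exact ⟨(g : W) * w * (g : W)⁻¹, (Subgroup.mem_normalizer_iff.1 g.2 w).1 hw,
      by simp [hG₁, hc, ← hwc]⟩
  have hzp : G₁ * c * G₁⁻¹ ∈ Subgroup.zpowers c := by
    refine hA.mem_zpowers hb ((Nat.coprime_primes ha hb).2 hab) ?_ hcb' hc1 ?_
    · rw [conj_pow, hcb', mul_one, mul_inv_cancel]
    · exact congrArg Subtype.val (Subgroup.mem_center_iff.1 c₀.2 ⟨_, hgP⟩)
  obtain ⟨lam, hlam⟩ : ∃ lam : ℕ, G₁ * c * G₁⁻¹ = c ^ lam := by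
    obtain ⟨n, hn⟩ := (IsOfFinOrder.mem_zpowers_iff_mem_range_orderOf (isOfFinOrder_of_finite c)).1
      hzp |> Finset.mem_image.1
    exact ⟨n, hn.2.symm⟩
  by_cases hcomm : G₁ * c = c * G₁
  · -- lift to primary elements
    have lift : ∀ {l : ℕ} (v : quot K), l.Prime → v ^ l = 1 → v ≠ 1 →
        ∃ (n : Subgroup.normalizer (K : Set G)) (i : ℕ),
          (QuotientGroup.mk n : quot K) = v ^ i ∧ (n : G) ∉ K ∧ PEl l (n : G) := by
      intro l v hl hvl hv1
      obtain ⟨n, rfl⟩ := QuotientGroup.mk_surjective v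
      have hN0 := (orderOf_pos n).ne'
      refine ⟨n ^ ordCompl[l] (orderOf n), ordCompl[l] (orderOf n), by rw [QuotientGroup.mk_pow],
        fun hmem => ?_, ⟨(orderOf n).factorization l, ?_⟩⟩
      · have h1 : (QuotientGroup.mk n : quot K) ^ ordCompl[l] (orderOf n) = 1 := by
          rw [← QuotientGroup.mk_pow, QuotientGroup.eq_one_iff, Subgroup.mem_subgroupOf]
          exact hmem
        exact hv1 (eq_one_of_coprime (Nat.coprime_ordCompl hl hN0) hvl h1)
      · have e : (n ^ ordCompl[l] (orderOf n)) ^ l ^ (orderOf n).factorization l = 1 := by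
          rw [← pow_mul, mul_comm, Nat.ordProj_mul_ordCompl_eq_self, pow_orderOf_eq_one]
        exact congrArg Subtype.val e
    obtain ⟨n1, i, hn1, hn1K, hn1p⟩ := lift G₁ ha hga hg1
    obtain ⟨n2, j, hn2, hn2K, hn2p⟩ := lift c hb hcb' hc1
    refine false_of_commute ha hb hab hA hB n1.2 n2.2 hn1K hn2K hn1p hn2p ?_
    have h1 : (QuotientGroup.mk (n1 * n2 * n1⁻¹ * n2⁻¹) : quot K) = 1 := by
      rw [QuotientGroup.mk_mul, QuotientGroup.mk_mul, QuotientGroup.mk_mul, QuotientGroup.mk_inv,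
        QuotientGroup.mk_inv, hn1, hn2, (((show Commute G₁ c from hcomm).pow_left i).pow_right j).eq]
      group
    exact Subgroup.mem_subgroupOf.1 ((QuotientGroup.eq_one_iff _).1 h1)
  · letI := hA.commGroup
    obtain ⟨β, hβ⟩ := hA.exists_ne_one
    have hpow : ∀ j : ℕ, G₁ ^ j * c * (G₁ ^ j)⁻¹ = c ^ lam ^ j := by
      intro j
      induction j with
      | zero => simp
      | succ j ih =>
        calc G₁ ^ (j + 1) * c * (G₁ ^ (j + 1))⁻¹ = G₁ ^ j * (G₁ * c * G₁⁻¹) * (G₁ ^ j)⁻¹ := by group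
          _ = (G₁ ^ j * c * (G₁ ^ j)⁻¹) ^ lam := by rw [hlam, conj_pow]
          _ = c ^ lam ^ (j + 1) := by rw [ih, ← pow_mul, ← pow_succ]
    have hinv : c ^ (b - 1) = c⁻¹ := by
      rw [eq_inv_iff_mul_eq_one, ← pow_succ, Nat.sub_add_cancel hb.one_le, hcb']
    have hcj : ∀ i j : ℕ, c ^ i * G₁ ^ j * (c ^ i)⁻¹ =
        c ^ (i * (1 + (b - 1) * lam ^ j)) * G₁ ^ j := by
      intro i j
      rw [Nat.mul_add, mul_one, pow_add,
        show i * ((b - 1) * lam ^ j) = lam ^ j * ((b - 1) * i) by ring, pow_mul c (lam ^ j),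
        ← hpow j, conj_pow, pow_mul c (b - 1), hinv, inv_pow]
      group
    refine hβ (hA.eq_one_of_pow_quot ((Nat.coprime_primes ha hb).2 hab) β
      (pow_eq_one_of_norms hA.qact ha.pos hcb' (fun i => c ^ i * G₁ * (c ^ i)⁻¹)
        (fun j => 1 + (b - 1) * lam ^ j) (fun i j _ _ => by rw [conj_pow, hcj])
        (fun j hj0 hja => ?_) (fun i => hA.norm_eq_one _ ?_ ?_) (hA.norm_eq_one c hc1 hcb') β))
    · refine (Nat.coprime_comm.1 ((Nat.Prime.coprime_iff_not_dvd hb).2 fun hd => hcomm ?_))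
      have h1 : c ^ (1 + (b - 1) * lam ^ j) = 1 :=
        orderOf_dvd_iff_pow_eq_one.1 (by rw [hcb]; exact hd)
      rw [pow_add, pow_one, pow_mul, hinv, inv_pow, mul_inv_eq_one, ← hpow j] at h1
      have h2 : Commute (G₁ ^ j) c := by
        show G₁ ^ j * c = c * G₁ ^ j
        calc G₁ ^ j * c = (G₁ ^ j * c * (G₁ ^ j)⁻¹) * G₁ ^ j := by group
          _ = c * G₁ ^ j := by rw [← h1]
      obtain ⟨m, hm⟩ := Nat.exists_mul_mod_eq_one_of_coprime
        (Nat.coprime_of_lt_prime hj0.ne' hja ha).symm ha.one_lt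
      have h3 := h2.pow_left m
      rw [← pow_mul, pow_eq_pow_mod _ hga, hm.2, pow_one] at h3
      exact h3.eq
    · exact fun e => hg1 (by simpa [mul_inv_eq_one] using e)
    · rw [conj_pow, hga, mul_one, mul_inv_cancel]

end Cfsg.Agent.ThreeSizes
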