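import Cfsg.Agent.Lib.ThreeSizes.Dichotomy
import Cfsg.Agent.Lib.FiniteGroup.Kazarin
import Cfsg.Agent.Lib.FourOrbits.Basic
import Mathlib

/-!
Itô: a group with exactly three class sizes is soluble (from solvability of groups of odd order).
-/

set_option autoImplicit false
set_option linter.style.haveILetI false
set_option linter.unusedSectionVars false

namespace Cfsg.Agent.ThreeSizes

universe u

/-- Exactly three class sizes `1 < n₂ < n₁`. -/
structure Sizes (G : Type*) [Group G] (n₁ n₂ : ℕ) : Prop where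
  lt : n₂ < n₁
  one_lt : 1 < n₂
  sizes : ∀ x : G, (cent x).index = 1 ∨ (cent x).index = n₂ ∨ (cent x).index = n₁
  has₁ : ∃ x : G, (cent x).index = n₁
  has₂ : ∃ x : G, (cent x).index = n₂

section basic

variable {G : Type u} [Group G] [Finite G]

theorem mem_center_sub {H : Subgroup G} (x : H) :
    x ∈ Subgroup.center H ↔ H ≤ cent (x : G) := by
  rw [Subgroup.mem_center_iff]
  exact ⟨fun h y hy => mem_cent.2 (congrArg Subtype.val (h ⟨y, hy⟩)),
    fun h y => Subtype.ext (mem_cent.1 (h y.2))⟩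

theorem le_cent_of_primary {H : Subgroup G}
    (h : ∀ (e : G) (l : ℕ), l.Prime → e ∈ H → PEl l e → H ≤ cent e) {z : G} (hz : z ∈ H) :
    H ≤ cent z := by
  intro z' hz'
  by_contra hne
  obtain ⟨l, n, hl, he, hne'⟩ := exists_primary_not_mem (H := cent z') (x := z)
    (fun h' => hne (mem_cent_comm.1 h'))
  exact hne' (mem_cent_comm.1 (h _ l hl (H.pow_mem hz n) he hz'))

theorem exists_conj_mem_sylow {l : ℕ} [Fact l.Prime] (P : Sylow l G) {e : G} (he : PEl l e) :
    ∃ c : G, c * e * c⁻¹ ∈ (P : Subgroup G) := by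
  have hz : IsPGroup l (Subgroup.zpowers e) := PEl.isPGroup_of_forall fun y hy => by
    obtain ⟨n, rfl⟩ := Subgroup.mem_zpowers_iff.1 hy
    obtain ⟨k, hk⟩ := he
    exact ⟨k, by rw [← zpow_natCast, ← zpow_mul, mul_comm, zpow_mul, zpow_natCast, hk, one_zpow]⟩
  obtain ⟨Q, hQ⟩ := hz.exists_le_sylow
  obtain ⟨c, hc⟩ := MulAction.exists_smul_eq G Q P
  refine ⟨c, ?_⟩
  rw [← hc, Sylow.coe_subgroup_smul]
  exact Subgroup.smul_mem_pointwise_smul _ (MulAut.conj c) _ (hQ (Subgroup.mem_zpowers e))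

theorem conj_not_central {e : G} (c : G) (he : e ∉ Subgroup.center G) :
    c * e * c⁻¹ ∉ Subgroup.center G := fun h => he (by
  simpa [mul_assoc] using (inferInstance : (Subgroup.center G).Normal).conj_mem _ h c⁻¹)

/-- If all primes with noncentral elements are among two, the group is soluble. -/
theorem solvable_of_two_nc {p r : ℕ} (h : ∀ l : ℕ, l.Prime → NC G l → l = p ∨ l = r) :
    Group.IsSolvable G := by
  classical
  have hsub : (Nat.card (G ⧸ Subgroup.center G)).primeFactors ⊆ {p, r} := by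
    intro m hm
    obtain ⟨hmp, hmd, -⟩ := Nat.mem_primeFactors.1 hm
    haveI := Fact.mk hmp
    rw [Finset.mem_insert, Finset.mem_singleton]
    refine h m hmp ?_
    by_contra hnc
    obtain ⟨P⟩ : Nonempty (Sylow m G) := inferInstance
    have hle : (P : Subgroup G) ≤ Subgroup.center G := fun y hy => by
      by_contra hyZ
      exact hnc ⟨y, PEl.of_isPGroup P.isPGroup' hy, hyZ⟩
    exact P.not_dvd_index ((show m ∣ (Subgroup.center G).index from hmd).trans
      (Subgroup.index_dvd_of_le hle))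
  haveI : Group.IsSolvable (G ⧸ Subgroup.center G) :=
    FourOrbits.solvable_of_primes _ rfl ((Finset.card_le_card hsub).trans Finset.card_le_two)
  haveI : Group.IsSolvable (Subgroup.center G) :=
    Group.isSolvable_of_comm fun a b => Subtype.ext (Subgroup.mem_center_iff.1 b.2 a)
  exact Group.isSolvable_of_ker_le_range (Subgroup.center G).subtype
    (QuotientGroup.mk' (Subgroup.center G)) (by simp)

end basic

variable {G : Type u} [Group G] [Finite G] {n₁ n₂ : ℕ} (hS : Sizes G n₁ n₂)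

include hS

theorem Sizes.le_index {x : G} (hx : x ∉ Subgroup.center G) :
    n₂ ≤ (cent x).index ∧ (cent x).index ≤ n₁ := by
  rcases hS.sizes x with h | h | h
  · exact absurd (index_cent_eq_one_iff.1 h) hx
  · exact ⟨h.ge, h.le.trans hS.lt.le⟩
  · exact ⟨hS.lt.le.trans h.ge, h.le⟩

theorem Sizes.not_central {x : G} {i : ℕ} (h : (cent x).index = i) (hi : i = n₁ ∨ i = n₂) :
    x ∉ Subgroup.center G := fun hx => by
  have h1 := index_cent_eq_one_iff.2 hx
  have := hS.lt
  have := hS.one_lt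
  omega

theorem Sizes.eq_of_le {x y : G} (hy : (cent y).index = n₂) (hx : x ∉ Subgroup.center G)
    (hle : cent y ≤ cent x) : cent y = cent x :=
  eq_of_le_of_index_le hle (hy ▸ (hS.le_index hx).1)

theorem Sizes.exists_large_primary :
    ∃ (y : G) (p : ℕ), p.Prime ∧ PEl p y ∧ (cent y).index = n₂ := by
  obtain ⟨x, hx⟩ := hS.has₂
  obtain ⟨l, n, hl, hy, hyZ⟩ := exists_primary_not_mem (hS.not_central hx (Or.inr rfl))
  exact ⟨x ^ n, l, hl, hy, le_antisymm (hx ▸ index_le_of_le (cent_le_cent_pow x n))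
    (hS.le_index hyZ).1⟩

/-- `y` has in its centralizer an element of coprime order that is not central there. -/
def Split (G : Type*) [Group G] (y : G) (p : ℕ) : Prop :=
  ∃ (q : ℕ) (x : G), q.Prime ∧ q ≠ p ∧ x ∈ cent y ∧ PEl q x ∧ ¬ cent y ≤ cent x

omit hS in
theorem relIndex_cent {y x : G} (hyx : x ∈ cent y) {m n : ℕ} (hc : m.Coprime n) (hy : y ^ m = 1)
    (hx : x ^ n = 1) :
    (cent (⟨x, hyx⟩ : cent y)).index * (cent y).index = (cent (y * x)).index := by
  have he : cent (y * x) = cent y ⊓ cent x := cent_mul_eq (mem_cent.1 hyx).symm hc hy hx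
  rw [cent_subgroupOf, ← Subgroup.relIndex, ← Subgroup.inf_relIndex_right, inf_comm, ← he,
    Subgroup.relIndex_mul_index (he ▸ inf_le_left)]

theorem Sizes.twoSizes {y : G} {p : ℕ} (hp : p.Prime) (hy : PEl p y) (hyi : (cent y).index = n₂)
    (hD : Split G y p) : ∃ d, 1 < d ∧ n₂ * d = n₁ ∧ TwoSizes (cent y) p d := by
  obtain ⟨k, hk⟩ := hy
  have hyZ := hS.not_central hyi (Or.inr rfl)
  have hn2 := hS.one_lt
  have key : ∀ (x : cent y) (n : ℕ), n.Coprime p → x ^ n = 1 →
      (cent x).index = 1 ∨ n₂ * (cent x).index = n₁ := by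
    intro x n hn hx
    have h := relIndex_cent (y := y) x.2 ((hn.pow_right k).symm) hk
      (by simpa using congrArg Subtype.val hx)
    rw [hyi] at h
    have hpos : (cent x).index ≠ 0 := Subgroup.index_ne_zero_of_finite
    rcases hS.sizes (y * x) with h1 | h1 | h1
    · rw [h1] at h
      have := (Nat.eq_one_of_mul_eq_one_left h)
      omega
    · rw [h1] at h
      exact Or.inl ((Nat.mul_eq_right (by omega : n₂ ≠ 0)).1 h)
    · rw [h1, mul_comm] at h
      exact Or.inr h
  obtain ⟨q, x, hq, hqp, hx, ⟨j, hj⟩, hle⟩ := hD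
  have hx1 : (cent (⟨x, hx⟩ : cent y)).index ≠ 1 := fun h =>
    hle ((mem_center_sub _).1 (index_cent_eq_one_iff.1 h))
  have hd : n₂ * (cent (⟨x, hx⟩ : cent y)).index = n₁ :=
    (key ⟨x, hx⟩ (q ^ j) (((Nat.coprime_primes hq hp).2 hqp).pow_left j)
      (Subtype.ext (by simpa using hj))).resolve_left hx1
  have hpos : (cent (⟨x, hx⟩ : cent y)).index ≠ 0 := Subgroup.index_ne_zero_of_finite
  refine ⟨_, by omega, hd, fun z n hn hz => (key z n hn hz).imp id fun h => ?_⟩
  exact Nat.eq_of_mul_eq_mul_left (by omega) (h.trans hd.symm)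

theorem Sizes.split_index {y : G} {p : ℕ} (hp : p.Prime) (hy : PEl p y) (hyi : (cent y).index = n₂)
    (hD : Split G y p) {d : ℕ} (hd : n₂ * d = n₁) : TwoSizes (cent y) p d := by
  obtain ⟨d', -, hd', h⟩ := hS.twoSizes hp hy hyi hD
  have : d' = d := Nat.eq_of_mul_eq_mul_left (by have := hS.one_lt; omega) (hd'.trans hd.symm)
  exact this ▸ h

/-- A prime not dividing `d` has the same part in all noncentral centralizers. -/
theorem Sizes.has_all {d : ℕ} (hd : n₂ * d = n₁) {l : ℕ} (hl : l.Prime) (hld : ¬ l ∣ d)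
    (hL : NC G l) {x : G} (hx : x ∉ Subgroup.center G) : Has l (cent x) := by
  obtain ⟨e, he, heZ⟩ := hL
  have h0 : n₂ ≠ 0 := by have := hS.one_lt; omega
  have h1 : d ≠ 0 := fun h => hld (h ▸ dvd_zero l)
  have hv : ∀ z : G, z ∉ Subgroup.center G →
      (cent z).index.factorization l = n₂.factorization l := by
    intro z hz
    rcases hS.sizes z with h | h | h
    · exact absurd (index_cent_eq_one_iff.1 h) hz
    · rw [h]
    · rw [h, ← hd, Nat.factorization_mul h0 h1, Finsupp.add_apply,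
        Nat.factorization_eq_zero_of_not_dvd hld, add_zero]
  exact (has_congr hl (center_le_cent e) (center_le_cent x) (by rw [hv e heZ, hv x hx])).1
    ⟨e, self_mem_cent e, he, heZ⟩

theorem Sizes.dvd_n₂ {d : ℕ} (hd : n₂ * d = n₁) {l : ℕ} (hl : l.Prime) (hld : ¬ l ∣ d)
    (hL : NC G l) : l ∣ n₂ := by
  obtain ⟨x, hx⟩ := exists_dvd_index_of_nc hl hL
  rcases hS.sizes x with h | h | h <;> rw [h] at hx
  · exact absurd (Nat.dvd_one.1 hx) hl.ne_one
  · exact hx
  · rw [← hd] at hx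
    exact (hl.dvd_mul.1 hx).resolve_right hld

variable (hOS : OddChar.OddSolvable.{u})
  (h3 : ∀ a b : ℕ, ∃ v : ℕ, v.Prime ∧ NC G v ∧ v ≠ a ∧ v ≠ b)

include hOS h3

/-- Outside `y`'s prime, two primes have noncentral elements in the centralizer. -/
theorem Sizes.split_two {y : G} {p : ℕ} (hp : p.Prime) (hy : PEl p y) (hyi : (cent y).index = n₂)
    (hD : Split G y p) :
    ∃ q r : ℕ, q.Prime ∧ r.Prime ∧ q ≠ p ∧ r ≠ p ∧ q ≠ r ∧ NC (cent y) q ∧ NC (cent y) r := by
  obtain ⟨d, hd1, hd, hT⟩ := hS.twoSizes hp hy hyi hD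
  obtain ⟨r, x, hr, hrp, hx, hxr, hle⟩ := hD
  have hxc : (⟨x, hx⟩ : cent y) ∉ Subgroup.center (cent y) := fun h => hle ((mem_center_sub _).1 h)
  have hR : NC (cent y) r := ⟨⟨x, hx⟩, hxr.restrict, hxc⟩
  by_contra hcon
  have hother : ∀ l : ℕ, l.Prime → l ≠ p → l ≠ r → ¬ NC (cent y) l := fun l hl hlp hlr hl' =>
    hcon ⟨l, r, hl, hr, hlp, hrp, hlr, hl', hR⟩
  have hcen : ∀ l : ℕ, l.Prime → ¬ NC (cent y) l → ∀ z ∈ cent y, PEl l z → cent y ≤ cent z := by
    intro l hl hn z hz hzl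
    by_contra hle'
    exact hn ⟨⟨z, hz⟩, hzl.restrict, fun h => hle' ((mem_center_sub _).1 h)⟩
  have hidx := hT.index_eq hp hr hrp hxr.restrict hxc
  have hndvd : ∀ l : ℕ, l.Prime → ¬ NC (cent y) l → ¬ l ∣ d := fun l hl hn =>
    hidx ▸ not_dvd_index_of_not_nc hl hn _
  obtain ⟨v, hv, hV, hvp, hvr⟩ := h3 p r
  have hvn := hother v hv hvp hvr
  have hyZ := hS.not_central hyi (Or.inr rfl)
  obtain ⟨b, hb, hbv, hbZ⟩ := hS.has_all hd hv (hndvd v hv hvn) hV hyZ
  have hbe := hS.eq_of_le hyi hbZ (hcen v hv hvn b hb hbv)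
  have hbi : (cent b).index = n₂ := hbe ▸ hyi
  have hDb : Split G b v := ⟨r, x, hr, hvr.symm, hbe ▸ hx, hxr, hbe ▸ hle⟩
  have hTb : TwoSizes (cent y) v d := by
    rw [hbe]; exact hS.split_index hv hbv hbi hDb hd
  by_cases hP : NC (cent y) p
  · -- no prime divides `d`
    obtain ⟨l, hl, hld⟩ := Nat.exists_prime_and_dvd hd1.ne'
    by_cases hlv : l = v
    · exact hndvd v hv hvn (hlv ▸ hld)
    · exact hTb.not_dvd hOS hv hp hr hvp.symm hvr.symm hrp.symm hP hR hl hlv hld
  · -- both `p` and `v` give central parts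
    have hpd := hndvd p hp hP
    have hPG : NC G p := ⟨y, hy, hyZ⟩
    have hpart : ∀ l : ℕ, l.Prime → ¬ NC (cent y) l → NC G l → CentralPart (cent y) l := by
      intro l hl hn hG
      refine ⟨fun z hz hzl hzZ => (hS.eq_of_le hyi hzZ (hcen l hl hn z hz hzl)).symm,
        hS.has_all hd hl (hndvd l hl hn) hG hyZ, ?_⟩
      rw [hyi]
      exact hS.dvd_n₂ hd hl (hndvd l hl hn) hG
    exact false_of_centralParts hOS hp hv hvp.symm (hpart p hp hP hPG) (hpart v hv hvn hV)

/-- No large primary element has a split centralizer. -/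
theorem Sizes.not_split {y : G} {p : ℕ} (hp : p.Prime) (hy : PEl p y)
    (hyi : (cent y).index = n₂) : ¬ Split G y p := by
  intro hD
  obtain ⟨d, hd1, hd, hT⟩ := hS.twoSizes hp hy hyi hD
  obtain ⟨q, r, hq, hr, hqp, hrp, hqr, hQ, hR⟩ := hS.split_two hOS h3 hp hy hyi hD
  have hndvd : ∀ l : ℕ, l.Prime → l ≠ p → ¬ l ∣ d := fun l hl hlp =>
    hT.not_dvd hOS hp hq hr hqp hrp hqr hQ hR hl hlp
  obtain ⟨w, hw, hwc⟩ := hQ
  have hwd := hT.index_eq hp hq hqp hw hwc
  obtain ⟨j, hj⟩ := id hy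
  obtain ⟨i, hi⟩ := id hw.coe
  have hcop : (p ^ j).Coprime (q ^ i) := ((Nat.coprime_primes hp hq).2 hqp.symm).pow j i
  set K := cent (y * w) with hKdef
  have hKeq : K = cent y ⊓ cent (w : G) := cent_mul_eq (mem_cent.1 w.2).symm hcop hj hi
  have hKi : K.index = n₁ := by
    have h := relIndex_cent w.2 hcop hj hi
    rw [show (⟨(w : G), w.2⟩ : cent y) = w from rfl, hwd, hyi, mul_comm, hd] at h
    exact h.symm
  have hKZ : y * (w : G) ∉ Subgroup.center G := hS.not_central hKi (Or.inl rfl)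
  have hpart : ∀ {u u' : ℕ}, u.Prime → u'.Prime → u ≠ p → u' ≠ u → NC (cent y) u →
      NC (cent y) u' → CentralPart K u := by
    intro u u' hu hu' hup hne hU hU'
    have huG : NC G u := by
      obtain ⟨z, hz, hzc⟩ := hU
      exact ⟨z, hz.coe, fun hZ => hzc ((mem_center_sub _).2
        ((cent_eq_top_iff.2 hZ).symm ▸ le_top))⟩
    refine ⟨fun x hx hxu hxZ => ?_, hS.has_all hd hu (hndvd u hu hup) huG hKZ, ?_⟩
    swap
    · rw [hKi, ← hd]
      exact dvd_mul_of_dvd_left (hS.dvd_n₂ hd hu (hndvd u hu hup) huG) d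
    rw [hKeq] at hx
    -- a large element here is impossible
    have hbig : (cent x).index ≠ n₂ := by
      intro hxi
      have hDx : Split G x u := by
        by_cases heq : cent x = cent y
        · obtain ⟨z, hz, hzc⟩ := hU'
          exact ⟨u', z, hu', hne, by rw [heq]; exact z.2, hz.coe,
            fun hle => hzc ((mem_center_sub z).2 (by rw [heq] at hle; exact hle))⟩
        · exact ⟨p, y, hp, hup.symm, mem_cent_comm.1 hx.1, hy,
            fun hle => heq (hS.eq_of_le hxi (hS.not_central hyi (Or.inr rfl)) hle)⟩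
      obtain ⟨q', r', hq', hr', hq'u, hr'u, hq'r', hQ', hR'⟩ :=
        hS.split_two hOS h3 hu hxu hxi hDx
      have hTx := hS.split_index hu hxu hxi hDx hd
      obtain ⟨l, hl, hld⟩ := Nat.exists_prime_and_dvd hd1.ne'
      by_cases hlu : l = u
      · exact hndvd u hu hup (hlu ▸ hld)
      · exact hTx.not_dvd hOS hu hq' hr' hq'u hr'u hq'r' hQ' hR' hl hlu hld
    have hxi : (cent x).index = n₁ := by
      rcases hS.sizes x with h | h | h
      · exact absurd (index_cent_eq_one_iff.1 h) hxZ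
      · exact absurd h hbig
      · exact h
    have hxc : (⟨x, hx.1⟩ : cent y) ∉ Subgroup.center (cent y) := by
      intro hc
      refine hbig ?_
      rw [← hS.eq_of_le hyi hxZ ((mem_center_sub _).1 hc), hyi]
    have hsame := hT.cent_eq_of_mem hp hq hr hqp hrp hqr hw hwc hR hu hup
      (show (⟨x, hx.1⟩ : cent y) ∈ cent w from mem_cent.2 (Subtype.ext (mem_cent.1 hx.2)))
      hxu.restrict hxc
    rw [cent_subgroupOf, cent_subgroupOf, Subgroup.subgroupOf_inj] at hsame
    symm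
    refine eq_of_le_of_index_le ?_ (by rw [hKi, hxi])
    rw [hKeq, inf_comm, ← hsame]
    exact inf_le_left
  exact false_of_centralParts hOS hq hr hqr
    (hpart hq hr hqp hqr.symm ⟨w, hw, hwc⟩ hR) (hpart hr hq hrp hqr hR ⟨w, hw, hwc⟩)

theorem Sizes.le_cent_of_large {y x : G} {p q : ℕ} (hp : p.Prime) (hy : PEl p y)
    (hyi : (cent y).index = n₂) (hq : q.Prime) (hqp : q ≠ p) (hx : x ∈ cent y) (hxq : PEl q x) :
    cent y ≤ cent x := by
  by_contra h
  exact hS.not_split hOS h3 hp hy hyi ⟨q, x, hq, hqp, hx, hxq, h⟩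

/-- A small primary element does not commute with a large one. -/
theorem Sizes.sep {y w : G} {p q : ℕ} (hp : p.Prime) (hy : PEl p y) (hyi : (cent y).index = n₂)
    (hq : q.Prime) (hw : PEl q w) (hwi : (cent w).index = n₁) : w ∉ cent y := by
  intro hwy
  have hlt := hS.lt
  have hwZ := hS.not_central hwi (Or.inl rfl)
  have hcon : ¬ cent y ≤ cent w := fun h => by
    have := hS.eq_of_le hyi hwZ h
    rw [this, hwi] at hyi
    omega
  rcases ne_or_eq q p with hqp | rfl
  · exact hcon (hS.le_cent_of_large hOS h3 hp hy hyi hq hqp hwy hw)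
  by_cases hab : ∃ s : ℕ, s.Prime ∧ s ≠ q ∧ Has s (cent y)
  · obtain ⟨s, hs, hsq, x, hx, hxs, hxZ⟩ := hab
    have hxe := hS.eq_of_le hyi hxZ (hS.le_cent_of_large hOS h3 hp hy hyi hs hsq hx hxs)
    refine hcon (le_cent_of_primary (fun e l hl he hel => ?_) hwy)
    rcases ne_or_eq l q with hlq | rfl
    · exact hS.le_cent_of_large hOS h3 hp hy hyi hl hlq he hel
    · rw [hxe] at he ⊢
      exact hS.le_cent_of_large hOS h3 hs hxs (hxe ▸ hyi) hl hsq.symm he hel
  · obtain ⟨s, hs, hSn, hsq, -⟩ := h3 q q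
    obtain ⟨e, he, heZ⟩ := hSn
    have hei : (cent e).index = n₁ := by
      rcases hS.sizes e with h | h | h
      · exact absurd (index_cent_eq_one_iff.1 h) heZ
      · exact absurd ⟨s, hs, hsq, (has_congr hs (center_le_cent e) (center_le_cent y)
          (by rw [h, hyi])).1 ⟨e, self_mem_cent e, he, heZ⟩⟩ hab
      · exact h
    obtain ⟨x, hx, hxs, hxZ⟩ := (has_congr hs (center_le_cent e) (center_le_cent w)
      (by rw [hei, hwi])).1 ⟨e, self_mem_cent e, he, heZ⟩
    have hm := cent_mul_primes hp hs hsq.symm hw hxs hx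
    have hwx : w * x ∉ Subgroup.center G := by
      intro hc
      rw [← cent_eq_top_iff, hm] at hc
      exact hwZ (cent_eq_top_iff.1 (eq_top_iff.2 (hc ▸ inf_le_left)))
    have hi : (cent (w * x)).index = n₁ := le_antisymm (hS.le_index hwx).2
      (hwi ▸ index_le_of_le (hm ▸ inf_le_left))
    have heq : cent (w * x) = cent w :=
      eq_of_le_of_index_le (hm ▸ inf_le_left) (by rw [hi, hwi])
    have hyx : y ∈ cent x := by
      have h1 : y ∈ cent (w * x) := heq.symm ▸ mem_cent_comm.1 hwy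
      exact (hm ▸ h1).2
    exact hab ⟨s, hs, hsq, x, mem_cent_comm.1 hyx, hxs, hxZ⟩

/-- Commuting noncentral primary elements of distinct primes have the same centralizer. -/
theorem Sizes.same {w x : G} {q l : ℕ} (hq : q.Prime) (hl : l.Prime) (hql : q ≠ l) (hw : PEl q w)
    (hwZ : w ∉ Subgroup.center G) (hx : x ∈ cent w) (hxl : PEl l x)
    (hxZ : x ∉ Subgroup.center G) : cent x = cent w := by
  rcases (hS.sizes w).resolve_left (fun h => hwZ (index_cent_eq_one_iff.1 h)) with hwi | hwi <;>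
    rcases (hS.sizes x).resolve_left (fun h => hxZ (index_cent_eq_one_iff.1 h)) with hxi | hxi
  · exact (hS.eq_of_le hwi hxZ (hS.le_cent_of_large hOS h3 hq hw hwi hl hql.symm hx hxl)).symm
  · exact absurd hx (hS.sep hOS h3 hq hw hwi hl hxl hxi)
  · exact absurd (mem_cent_comm.1 hx) (hS.sep hOS h3 hl hxl hxi hq hw hwi)
  · have hm := cent_mul_primes hq hl hql hw hxl hx
    have hwx : w * x ∉ Subgroup.center G := by
      intro hc
      rw [← cent_eq_top_iff, hm] at hc
      exact hwZ (cent_eq_top_iff.1 (eq_top_iff.2 (hc ▸ inf_le_left)))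
    have hi := (hS.le_index hwx).2
    rw [← eq_of_le_of_index_le (hm ▸ inf_le_right : cent (w * x) ≤ cent x) (hxi ▸ hi)]
    exact eq_of_le_of_index_le (hm ▸ inf_le_left) (hwi ▸ hi)

omit hS hOS h3

/-- `l` occurs in the centralizers of the primary elements of class size `i`. -/
def Occurs (G : Type*) [Group G] (i l : ℕ) : Prop :=
  l.Prime ∧ ∃ (w : G) (q : ℕ), q.Prime ∧ PEl q w ∧ (cent w).index = i ∧ Has l (cent w)

theorem Occurs.has {i l : ℕ} (h : Occurs G i l) {w : G} (hwi : (cent w).index = i) :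
    Has l (cent w) := by
  obtain ⟨hl, w', q, -, -, hi', h'⟩ := h
  exact (has_congr hl (center_le_cent w') (center_le_cent w) (by rw [hi', hwi])).1 h'

theorem occurs_self {i l : ℕ} (hl : l.Prime) {w : G} (hw : PEl l w)
    (hwZ : w ∉ Subgroup.center G) (hwi : (cent w).index = i) : Occurs G i l :=
  ⟨hl, w, l, hl, hw, hwi, w, self_mem_cent w, hw, hwZ⟩

/-- Two primes occur. -/
def Multi (G : Type*) [Group G] (i : ℕ) : Prop := ∃ a b : ℕ, a ≠ b ∧ Occurs G i a ∧ Occurs G i b

include hS hOS h3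

theorem Sizes.cent_multi {i : ℕ} (hM : Multi G i) {w : G} {q : ℕ} (hq : q.Prime) (hw : PEl q w)
    (hwZ : w ∉ Subgroup.center G) (hwi : (cent w).index = i) {x : G} {l : ℕ} (hl : l.Prime)
    (hx : x ∈ cent w) (hxl : PEl l x) (hxZ : x ∉ Subgroup.center G) : cent x = cent w := by
  obtain ⟨a, b, hab, hA, hB⟩ := hM
  obtain ⟨c, hcq, hC⟩ : ∃ c, c ≠ q ∧ Occurs G i c := by
    rcases ne_or_eq a q with h | rfl
    · exact ⟨a, h, hA⟩
    · exact ⟨b, hab.symm, hB⟩
  rcases ne_or_eq q l with hql | rfl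
  · exact hS.same hOS h3 hq hl hql hw hwZ hx hxl hxZ
  · obtain ⟨u, hu, huc, huZ⟩ := hC.has hwi
    have h1 := hS.same hOS h3 hq hC.1 hcq.symm hw hwZ hu huc huZ
    rw [← h1]
    exact hS.same hOS h3 hC.1 hq hcq huc huZ (h1.symm ▸ hx) hxl hxZ

theorem Sizes.le_cent_multi {i : ℕ} (hM : Multi G i) {w : G} {q : ℕ} (hq : q.Prime) (hw : PEl q w)
    (hwZ : w ∉ Subgroup.center G) (hwi : (cent w).index = i) {z : G} (hz : z ∈ cent w) :
    cent w ≤ cent z := by
  refine le_cent_of_primary (fun e l hl he hel => ?_) hz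
  by_cases heZ : e ∈ Subgroup.center G
  · rw [cent_eq_top_iff.2 heZ]; exact le_top
  · exact (hS.cent_multi hOS h3 hM hq hw hwZ hwi hl he hel heZ).ge

theorem Sizes.centralPart_multi {i : ℕ} (hM : Multi G i) {w : G} {q : ℕ} (hq : q.Prime)
    (hw : PEl q w) (hwZ : w ∉ Subgroup.center G) (hwi : (cent w).index = i) {l : ℕ}
    (hL : Occurs G i l) (hli : l ∣ i) : CentralPart (cent w) l :=
  ⟨fun _ hx hxl hxZ => hS.cent_multi hOS h3 hM hq hw hwZ hwi hL.1 hx hxl hxZ, hL.has hwi,
    hwi.symm ▸ hli⟩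

theorem Sizes.partial_unique {i : ℕ} (hi : i = n₁ ∨ i = n₂) (hM : Multi G i) :
    ∃ t : ℕ, t.Prime ∧ ∀ l : ℕ, Occurs G i l → l ∣ i → l = t := by
  by_cases h : ∃ t, Occurs G i t ∧ t ∣ i
  swap
  · exact ⟨2, Nat.prime_two, fun l hl hli => absurd ⟨l, hl, hli⟩ h⟩
  obtain ⟨t, hT, hti⟩ := h
  refine ⟨t, hT.1, fun l hL hli => ?_⟩
  by_contra hne
  obtain ⟨-, w, q, hq, hw, hwi, -⟩ := id hT
  have hwZ := hS.not_central hwi hi
  exact false_of_centralParts hOS hL.1 hT.1 hne
    (hS.centralPart_multi hOS h3 hM hq hw hwZ hwi hL hli)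
    (hS.centralPart_multi hOS h3 hM hq hw hwZ hwi hT hti)

theorem Sizes.solvable_one_multi {i j : ℕ} (hij : (i = n₁ ∧ j = n₂) ∨ (i = n₂ ∧ j = n₁))
    (hM : Multi G i) (hj : ¬ Multi G j) : Group.IsSolvable G := by
  obtain ⟨t, ht, htu⟩ := hS.partial_unique hOS h3 (hij.imp And.left And.left) hM
  obtain ⟨s, hs, hsu⟩ : ∃ s : ℕ, s.Prime ∧ ∀ l, Occurs G j l → l = s := by
    by_cases h : ∃ s, Occurs G j s
    · obtain ⟨s, hs⟩ := h
      exact ⟨s, hs.1, fun l hl => by_contra fun hne => hj ⟨l, s, hne, hl, hs⟩⟩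
    · exact ⟨2, Nat.prime_two, fun l hl => absurd ⟨l, hl⟩ h⟩
  have htype : ∀ (x : G), x ∉ Subgroup.center G → (cent x).index = i ∨ (cent x).index = j := by
    intro x hx
    rcases hS.sizes x with h | h | h
    · exact absurd (index_cent_eq_one_iff.1 h) hx
    · rcases hij with ⟨rfl, rfl⟩ | ⟨rfl, rfl⟩ <;> simp [h]
    · rcases hij with ⟨rfl, rfl⟩ | ⟨rfl, rfl⟩ <;> simp [h]
  refine solvable_of_twoPrimeClasses hs ht _ G le_rfl fun x l hl hls hx m hm hms hmt hd => ?_
  by_cases hxZ : x ∈ Subgroup.center G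
  · rw [index_cent_eq_one_iff.2 hxZ, Nat.dvd_one] at hd
    exact hm.ne_one hd
  rcases htype x hxZ with hxi | hxi
  swap
  · exact hls (hsu l (occurs_self hl hx hxZ hxi))
  rw [hxi] at hd
  obtain ⟨e, he, heZ⟩ : NC G m := by
    by_contra hn
    exact not_dvd_index_of_not_nc hm hn x (by rw [hxi]; exact hd)
  rcases htype e heZ with hei | hei
  · exact hmt (htu m (occurs_self hm he heZ hei) hd)
  · exact hms (hsu m (occurs_self hm he heZ hei))

/-- One representative for each class of abelian centralizers. -/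
theorem Sizes.exists_rep {i : ℕ} (hi : i = n₁ ∨ i = n₂) (hM : Multi G i) :
    ∃ C : Subgroup G, C.index = i ∧ Subgroup.center G ≤ C ∧
      (∀ x ∈ C, x ∉ Subgroup.center G → ∀ l : ℕ, l.Prime → PEl l x → cent x = C) ∧
      (∀ x ∈ C, C ≤ cent x) ∧
      ∀ (w : G) (q : ℕ), q.Prime → PEl q w → (cent w).index = i →
        ∀ z ∈ cent w, ∃ c : G, c * z * c⁻¹ ∈ C := by
  obtain ⟨a, b, hab, hA, hB⟩ := id hM
  obtain ⟨-, w₀, q₀, hq₀, hw₀, hw₀i, -⟩ := id hA
  have hw₀Z := hS.not_central hw₀i hi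
  refine ⟨cent w₀, hw₀i, center_le_cent _,
    fun x hx hxZ l hl hxl => hS.cent_multi hOS h3 hM hq₀ hw₀ hw₀Z hw₀i hl hx hxl hxZ,
    fun x hx => hS.le_cent_multi hOS h3 hM hq₀ hw₀ hw₀Z hw₀i hx, fun w q hq hw hwi z hz => ?_⟩
  obtain ⟨l, hL, hli⟩ : ∃ l, Occurs G i l ∧ ¬ l ∣ i := by
    obtain ⟨t, -, htu⟩ := hS.partial_unique hOS h3 hi hM
    by_contra hcon
    push Not at hcon
    exact hab ((htu a hA (hcon a hA)).trans (htu b hB (hcon b hB)).symm)
  haveI := Fact.mk hL.1
  obtain ⟨P, hP⟩ := ClassCover.exists_sylow_of_mem l (x := w₀)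
    (show ¬ l ∣ (cent w₀).index by rw [hw₀i]; exact hli)
  obtain ⟨x, hx, hxl, hxZ⟩ := hL.has hwi
  have hwZ := hS.not_central hwi hi
  have hxe := hS.cent_multi hOS h3 hM hq hw hwZ hwi hL.1 hx hxl hxZ
  obtain ⟨c, hc⟩ := exists_conj_mem_sylow P hxl
  have hcC : c * x * c⁻¹ ∈ cent w₀ := mem_cent.2 (Subgroup.mem_centralizer_iff.1 hP _ hc)
  have he := hS.cent_multi hOS h3 hM hq₀ hw₀ hw₀Z hw₀i hL.1 hcC (hxl.conj c) (conj_not_central c hxZ)
  refine ⟨c, he ▸ mem_cent.2 ?_⟩
  have hzx : z * x = x * z := mem_cent.1 (hxe.symm ▸ hz)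
  calc c * z * c⁻¹ * (c * x * c⁻¹) = c * (z * x) * c⁻¹ := by group
    _ = c * (x * z) * c⁻¹ := by rw [hzx]
    _ = c * x * c⁻¹ * (c * z * c⁻¹) := by group

theorem Sizes.solvable_both_multi {i j : ℕ} (hij : (i = n₁ ∧ j = n₂) ∨ (i = n₂ ∧ j = n₁))
    (hMi : Multi G i) (hMj : Multi G j) {C : Subgroup G} (hCi : C.index = i)
    (hC1 : ∀ x ∈ C, x ∉ Subgroup.center G → ∀ l : ℕ, l.Prime → PEl l x → cent x = C)
    (hC2 : ∀ x ∈ C, C ≤ cent x) (hN : Subgroup.normalizer (C : Set G) ≤ C) :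
    Group.IsSolvable G := by
  classical
  have hi := hij.imp And.left And.left
  have hfull : ∀ l, Occurs G i l → ¬ l ∣ i := by
    intro l hL hli
    have hpart : CentralPart C l :=
      ⟨fun x hx hxl hxZ => hC1 x hx hxZ l hL.1 hxl, by
        obtain ⟨hl, w, q, hq, hw, hwi, h⟩ := hL
        exact (has_congr hl (center_le_cent w) (fun z hz => by
          exact hN (Subgroup.center_le_normalizer _ hz)) (by rw [hwi, hCi])).1 h,
        hCi.symm ▸ hli⟩
    obtain ⟨h, hh, hhC, -⟩ := hpart.exists_normalizing hL.1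
    exact hhC (hN hh)
  have hcen : Subgroup.center G ≤ C := fun z hz => hN (Subgroup.center_le_normalizer _ hz)
  have hder : ∀ l, Occurs G i l → ¬ l ∣ Nat.card (commutator G) := by
    intro l hL
    haveI := Fact.mk hL.1
    obtain ⟨Q⟩ : Nonempty (Sylow l C) := inferInstance
    obtain ⟨P, hP⟩ := (Q.isPGroup'.map C.subtype).exists_le_sylow
    have hPC : (P : Subgroup G) ≤ C := by
      have h1 : Nat.card ((Q : Subgroup C).map C.subtype) = Nat.card (P : Subgroup G) := by
        rw [Subgroup.card_map_of_injective C.subtype_injective, Q.card_eq_multiplicity,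
          P.card_eq_multiplicity]
        congr 1
        have h := factorization_card l C
        rw [hCi, Nat.factorization_eq_zero_of_not_dvd (hfull l hL), add_zero] at h
        exact h
      rw [← Subgroup.eq_of_le_of_card_ge hP h1.ge]
      exact Subgroup.map_subtype_le _
    obtain ⟨-, w, q, -, -, -, e, -, hel, heZ⟩ := id hL
    obtain ⟨c, hc⟩ := exists_conj_mem_sylow P hel
    have hxZ := conj_not_central c heZ
    set x := c * e * c⁻¹ with hx
    have hNC : Subgroup.normalizer ((P : Subgroup G) : Set G) ≤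
        Subgroup.centralizer ((P : Subgroup G) : Set G) := by
      intro n hn
      have hxl : PEl l x := hel.conj c
      have h1 : n * x * n⁻¹ ∈ C := hPC ((Subgroup.mem_normalizer_iff.1 hn x).1 hc)
      have e1 := hC1 x (hPC hc) hxZ l hL.1 hxl
      have e2 := hC1 _ h1 (conj_not_central n hxZ) l hL.1 (hxl.conj n)
      have hnC : n ∈ C := hN (Subgroup.mem_normalizer_iff.2 fun y => by
        conv_lhs => rw [← e1]
        conv_rhs => rw [← e2]
        rw [mem_cent, mem_cent]
        constructor <;> intro hh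
        · calc n * y * n⁻¹ * (n * x * n⁻¹) = n * (y * x) * n⁻¹ := by group
            _ = n * (x * y) * n⁻¹ := by rw [hh]
            _ = n * x * n⁻¹ * (n * y * n⁻¹) := by group
        · calc y * x = n⁻¹ * (n * y * n⁻¹ * (n * x * n⁻¹)) * n := by group
            _ = n⁻¹ * (n * x * n⁻¹ * (n * y * n⁻¹)) * n := by rw [hh]
            _ = x * y := by group)
      exact Subgroup.mem_centralizer_iff.2 fun y hy => mem_cent.1 (hC2 n hnC (hPC hy))
    have hcomp := MonoidHom.ker_transferSylow_isComplement' P hNC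
    have hcard : Nat.card (MonoidHom.transferSylow P hNC).ker = (P : Subgroup G).index := by
      rw [hcomp.index_eq_card]
    have hle : commutator G ≤ (MonoidHom.transferSylow P hNC).ker := by
      rw [commutator_def, Subgroup.commutator_le]
      intro a _ b _
      rw [MonoidHom.mem_ker, map_commutatorElement, commutatorElement_eq_one_iff_mul_comm]
      exact Subtype.ext (mem_cent.1 (hC2 _ (hPC (MonoidHom.transferSylow P hNC b).2)
        (hPC (MonoidHom.transferSylow P hNC a).2)))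
    intro hd
    exact P.not_dvd_index (hcard ▸ hd.trans (Subgroup.card_dvd_of_le hle))
  obtain ⟨t, ht, htu⟩ := hS.partial_unique hOS h3 (hij.symm.imp And.right And.right) hMj
  have htype : ∀ (x : G), x ∉ Subgroup.center G → (cent x).index = i ∨ (cent x).index = j := by
    intro x hx
    rcases hS.sizes x with h | h | h
    · exact absurd (index_cent_eq_one_iff.1 h) hx
    · rcases hij with ⟨rfl, rfl⟩ | ⟨rfl, rfl⟩ <;> simp [h]
    · rcases hij with ⟨rfl, rfl⟩ | ⟨rfl, rfl⟩ <;> simp [h]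
  haveI : Group.IsSolvable (commutator G) := by
    refine solvable_of_twoPrimeClasses ht ht _ (commutator G) le_rfl
      fun x l hl hlt hx m hm hmt _ hd => ?_
    have hd' := hd.trans (index_cent_normal_dvd (commutator G) x)
    by_cases hxZ : (x : G) ∈ Subgroup.center G
    · rw [index_cent_eq_one_iff.2 hxZ, Nat.dvd_one] at hd'
      exact hm.ne_one hd'
    rcases htype _ hxZ with hxi | hxi
    · refine hder l (occurs_self hl hx.coe hxZ hxi) ?_
      have hx1 : x ≠ 1 := fun h => hxZ (by rw [h]; exact Subgroup.one_mem _)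
      obtain ⟨k, hk⟩ := hx
      obtain ⟨k', -, hk'⟩ := (Nat.dvd_prime_pow hl).1 (orderOf_dvd_of_pow_eq_one hk)
      refine (dvd_pow_self l fun h0 => hx1 ?_).trans (hk' ▸ orderOf_dvd_natCard x)
      rwa [h0, pow_zero, orderOf_eq_one_iff] at hk'
    rw [hxi] at hd'
    obtain ⟨e, he, heZ⟩ : NC G m := by
      by_contra hn
      exact not_dvd_index_of_not_nc hm hn (x : G) (by rw [hxi]; exact hd')
    rcases htype e heZ with hei | hei
    · exact hder m (occurs_self hm he heZ hei) (hd.trans (Subgroup.index_dvd_card _))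
    · exact hmt (htu m (occurs_self hm he heZ hei) hd')
  haveI : Group.IsSolvable (G ⧸ commutator G) :=
    Group.isSolvable_of_comm (G := Abelianization G) fun a b => mul_comm a b
  exact Group.isSolvable_of_ker_le_range (commutator G).subtype (QuotientGroup.mk' (commutator G))
    (by simp)

theorem Sizes.solvable_three : Group.IsSolvable G := by
  classical
  by_cases h1 : Multi G n₁
  swap
  · by_cases h2 : Multi G n₂
    · exact hS.solvable_one_multi hOS h3 (Or.inr ⟨rfl, rfl⟩) h2 h1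
    · -- at most two primes
      exfalso
      obtain ⟨a, ha⟩ : ∃ a, ∀ l, Occurs G n₁ l → l = a := by
        by_cases h : ∃ a, Occurs G n₁ a
        · obtain ⟨a, ha⟩ := h
          exact ⟨a, fun l hl => by_contra fun hne => h1 ⟨l, a, hne, hl, ha⟩⟩
        · exact ⟨0, fun l hl => absurd ⟨l, hl⟩ h⟩
      obtain ⟨b, hb⟩ : ∃ b, ∀ l, Occurs G n₂ l → l = b := by
        by_cases h : ∃ b, Occurs G n₂ b
        · obtain ⟨b, hb⟩ := h
          exact ⟨b, fun l hl => by_contra fun hne => h2 ⟨l, b, hne, hl, hb⟩⟩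
        · exact ⟨0, fun l hl => absurd ⟨l, hl⟩ h⟩
      obtain ⟨v, hv, ⟨e, he, heZ⟩, hva, hvb⟩ := h3 a b
      rcases hS.sizes e with h | h | h
      · exact heZ (index_cent_eq_one_iff.1 h)
      · exact hvb (hb v (occurs_self hv he heZ h))
      · exact hva (ha v (occurs_self hv he heZ h))
  by_cases h2 : Multi G n₂
  swap
  · exact hS.solvable_one_multi hOS h3 (Or.inl ⟨rfl, rfl⟩) h1 h2
  obtain ⟨A, hAi, hAZ, hA1, hA2, hA3⟩ := hS.exists_rep hOS h3 (Or.inl rfl) h1
  obtain ⟨B, hBi, hBZ, hB1, hB2, hB3⟩ := hS.exists_rep hOS h3 (Or.inr rfl) h2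
  by_cases hNA : Subgroup.normalizer (A : Set G) ≤ A
  · exact hS.solvable_both_multi hOS h3 (Or.inl ⟨rfl, rfl⟩) h1 h2 hAi hA1 hA2 hNA
  by_cases hNB : Subgroup.normalizer (B : Set G) ≤ B
  · exact hS.solvable_both_multi hOS h3 (Or.inr ⟨rfl, rfl⟩) h2 h1 hBi hB1 hB2 hNB
  exfalso
  -- counting
  haveI := Fintype.ofFinite G
  have hcount : Nat.card {z : G // z ∉ Subgroup.center G} ≤
      Nat.card ((G ⧸ Subgroup.normalizer (A : Set G)) × {c : A // (c : G) ∉ Subgroup.center G}) +
      Nat.card ((G ⧸ Subgroup.normalizer (B : Set G)) × {c : B // (c : G) ∉ Subgroup.center G}) := by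
    rw [← Nat.card_sum]
    refine Nat.card_le_card_of_surjective
      (Sum.elim
        (fun a => (⟨a.1.out * ((a.2 : A) : G) * a.1.out⁻¹, conj_not_central _ a.2.2⟩ :
          {z : G // z ∉ Subgroup.center G}))
        (fun a => (⟨a.1.out * ((a.2 : B) : G) * a.1.out⁻¹, conj_not_central _ a.2.2⟩ :
          {z : G // z ∉ Subgroup.center G}))) ?_
    rintro ⟨z, hz⟩
    obtain ⟨l, n, hl, hw, hwZ⟩ := exists_primary_not_mem hz
    have hzw : z ∈ cent (z ^ n) := cent_le_cent_pow z n (self_mem_cent z)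
    have key : ∀ (X : Subgroup G) (c : G), c * z * c⁻¹ ∈ X →
        ∃ (q : G ⧸ Subgroup.normalizer (X : Set G)) (a : X),
          (a : G) ∉ Subgroup.center G ∧ q.out * a * q.out⁻¹ = z := by
      intro X c hc
      obtain ⟨m, hm⟩ := QuotientGroup.mk_out_eq_mul (Subgroup.normalizer (X : Set G)) c⁻¹
      have hmem : (m : G)⁻¹ * (c * z * c⁻¹) * m ∈ X := by
        simpa using (Subgroup.mem_normalizer_iff.1 (Subgroup.inv_mem _ m.2) (c * z * c⁻¹)).1 hc
      refine ⟨QuotientGroup.mk c⁻¹, ⟨_, hmem⟩, ?_, ?_⟩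
      · have := conj_not_central ((m : G)⁻¹ * c) hz
        convert this using 2
        group
      · rw [hm]; group
    rcases hS.sizes (z ^ n) with h | h | h
    · exact absurd (index_cent_eq_one_iff.1 h) hwZ
    · obtain ⟨c, hc⟩ := hB3 _ l hl hw h z hzw
      obtain ⟨q, a, ha, he⟩ := key B c hc
      exact ⟨Sum.inr (q, ⟨a, ha⟩), Subtype.ext he⟩
    · obtain ⟨c, hc⟩ := hA3 _ l hl hw h z hzw
      obtain ⟨q, a, ha, he⟩ := key A c hc
      exact ⟨Sum.inl (q, ⟨a, ha⟩), Subtype.ext he⟩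
  set z := Nat.card (Subgroup.center G) with hzdef
  have hsub : ∀ (X : Subgroup G), Subgroup.center G ≤ X →
      Nat.card {c : X // (c : G) ∉ Subgroup.center G} + z = Nat.card X := by
    intro X hX
    haveI := Fintype.ofFinite X
    have h1 := Nat.card_congr (Equiv.sumCompl fun c : X => (c : G) ∈ Subgroup.center G)
    rw [Nat.card_sum] at h1
    have h2 : Nat.card {c : X // (c : G) ∈ Subgroup.center G} = z := by
      rw [hzdef, ← Nat.card_congr (Subgroup.subgroupOfEquivOfLe hX).toEquiv]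
      exact Nat.card_congr (Equiv.subtypeEquivRight fun c => (Subgroup.mem_subgroupOf).symm)
    omega
  have hall : Nat.card {z : G // z ∉ Subgroup.center G} + z = Nat.card G := by
    have h1 := Nat.card_congr (Equiv.sumCompl fun c : G => c ∈ Subgroup.center G)
    rw [Nat.card_sum] at h1
    omega
  have hhalf : ∀ (X : Subgroup G), ¬ Subgroup.normalizer (X : Set G) ≤ X →
      2 * (Subgroup.normalizer (X : Set G)).index ≤ X.index := by
    intro X hX
    rw [← Subgroup.relIndex_mul_index (Subgroup.le_normalizer (H := X))]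
    refine Nat.mul_le_mul_right _ ?_
    have h0 : X.relIndex (Subgroup.normalizer (X : Set G)) ≠ 0 := by
      intro h
      exact (Subgroup.index_ne_zero_of_finite : X.index ≠ 0)
        (by rw [← Subgroup.relIndex_mul_index (Subgroup.le_normalizer (H := X)), h, zero_mul])
    have h1 : X.relIndex (Subgroup.normalizer (X : Set G)) ≠ 1 := fun h =>
      hX (Subgroup.relIndex_eq_one.1 h)
    omega
  rw [Nat.card_prod, Nat.card_prod, ← Subgroup.index, ← Subgroup.index] at hcount
  have hA4 := hsub A hAZ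
  have hB4 := hsub B hBZ
  have hA5 := hhalf A hNA
  have hB5 := hhalf B hNB
  have hA6 := A.card_mul_index
  have hB6 := B.card_mul_index
  rw [hAi] at hA5 hA6
  rw [hBi] at hB5 hB6
  have hz0 : 0 < z := Nat.card_pos
  have hlt := hS.lt
  have hone := hS.one_lt
  set a := Nat.card {c : A // (c : G) ∉ Subgroup.center G}
  set b := Nat.card {c : B // (c : G) ∉ Subgroup.center G}
  set o := Nat.card {z : G // z ∉ Subgroup.center G}
  set iA := (Subgroup.normalizer (A : Set G)).index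
  set iB := (Subgroup.normalizer (B : Set G)).index
  have h7 : 2 * iA * a ≤ n₁ * a := Nat.mul_le_mul_right a hA5
  have h8 : 2 * iB * b ≤ n₂ * b := Nat.mul_le_mul_right b hB5
  rw [← hA4, add_mul] at hA6
  rw [← hB4, add_mul] at hB6
  have h9 : z * 3 ≤ z * n₁ := Nat.mul_le_mul_left z (by omega)
  have h10 : 0 < z * n₂ := Nat.mul_pos hz0 (by omega)
  nlinarith

omit h3

/-- Itô's theorem, from solvability of groups of odd order. -/
theorem Sizes.solvable : Group.IsSolvable G := by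
  by_cases h : ∃ a b : ℕ, ∀ l : ℕ, l.Prime → NC G l → l = a ∨ l = b
  · obtain ⟨a, b, hab⟩ := h
    exact solvable_of_two_nc hab
  · push Not at h
    exact hS.solvable_three hOS h

end Cfsg.Agent.ThreeSizes
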